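import Mathlib
import Cfsg.Prelude.Def_KGroupFacts
import Cfsg.Agent.Lib.Schur.Hopf

/-!
# A multiplier of order six from a bound and two covers
-/

set_option autoImplicit false
set_option linter.style.haveILetI false

open scoped commutatorElement

namespace CfsgLib.OmegaSevenMult

universe u

variable {G : Type u} [Group G]

/-- A central extension of a perfect group has perfect derived group, mapping onto the group. -/
theorem derived_perfect {P : Type u} [Group P] {τ : P →* G} (hs : Function.Surjective τ)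
    (hc : τ.ker ≤ Subgroup.center P) (hG : commutator G = ⊤) :
    commutator (commutator P) = ⊤ ∧ Function.Surjective (τ.comp (commutator P).subtype) := by
  have hmap : (commutator P).map τ = ⊤ := by
    rw [commutator_def, Subgroup.map_commutator, Subgroup.map_top_of_surjective τ hs, ← commutator_def, hG]
  have hlift : ∀ g, ∃ d ∈ commutator P, τ d = g := fun g => Subgroup.mem_map.1 (hmap ▸ Subgroup.mem_top g)
  refine ⟨?_, fun g => ?_⟩
  · refine Subgroup.map_injective (Subgroup.subtype_injective _) ?_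
    rw [Subgroup.map_subtype_commutator, ← MonoidHom.range_eq_map, Subgroup.range_subtype]
    refine le_antisymm (Subgroup.commutator_mono le_top le_top) ?_
    rw [commutator_def, Subgroup.commutator_le]
    intro a _ b _
    obtain ⟨a', ha', ea⟩ := hlift (τ a)
    obtain ⟨b', hb', eb⟩ := hlift (τ b)
    rw [CfsgLib.Schur.commutatorElement_congr τ hc ea.symm eb.symm]
    exact Subgroup.commutator_mem_commutator ha' hb'
  · obtain ⟨d, hd, e⟩ := hlift g
    exact ⟨⟨d, hd⟩, e⟩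

theorem squarefree_six : Squarefree (6 : ℕ) := by
  rw [show (6 : ℕ) = 2 * 3 from rfl, Nat.squarefree_mul (by norm_num)]
  exact ⟨Nat.prime_two.squarefree, Nat.prime_three.squarefree⟩

/-- A central kernel of order dividing six is cyclic. -/
theorem cyclic_ker {Δ : Type u} [Group Δ] [Finite Δ] (τ : Δ →* G)
    (hc : τ.ker ≤ Subgroup.center Δ) (h6 : Nat.card τ.ker ∣ 6) : IsCyclic τ.ker := by
  letI : CommGroup τ.ker :=
    { (inferInstance : Group τ.ker) with
      mul_comm := fun x y => Subtype.ext (Subgroup.mem_center_iff.mp (hc y.2) x.1) }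
  haveI : IsZGroup τ.ker := IsZGroup.of_squarefree (squarefree_six.squarefree_of_dvd h6)
  infer_instance

/-- The multiplier is cyclic of order six. -/
theorem multiplier_six (hG : commutator G = ⊤)
    (bound : ∀ {Δ : Type u} [Group Δ] [Finite Δ] (τ : Δ →* G), Function.Surjective τ →
      τ.ker ≤ Subgroup.center Δ → commutator Δ = ⊤ → Nat.card τ.ker ∣ 6)
    {Γ₁ Γ₂ : Type u} [Group Γ₁] [Finite Γ₁] [Group Γ₂] [Finite Γ₂] {σ₁ : Γ₁ →* G} {σ₂ : Γ₂ →* G}
    (h₁ : Cfsg.IsStemExtension σ₁) (h₂ : Cfsg.IsStemExtension σ₂) (hc₁ : 2 ∣ Nat.card σ₁.ker)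
    (hc₂ : 3 ∣ Nat.card σ₂.ker) : Cfsg.HasCyclicSchurMultiplier G 6 := by
  classical
  have hperf : ∀ {Δ : Type u} [Group Δ] {τ : Δ →* G}, Cfsg.IsStemExtension τ → commutator Δ = ⊤ := by
    rintro Δ _ τ ⟨hs, -, hk⟩
    rw [← sup_of_le_left hk, ← Subgroup.comap_map_eq, commutator_def, Subgroup.map_commutator,
      Subgroup.map_top_of_surjective τ hs, ← commutator_def, hG, Subgroup.comap_top]
  let P : Subgroup (Γ₁ × Γ₂) :=
    { carrier := {x | σ₁ x.1 = σ₂ x.2}
      one_mem' := by simp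
      mul_mem' := fun {x y} (a : σ₁ x.1 = σ₂ x.2) (b : σ₁ y.1 = σ₂ y.2) => by
        show σ₁ (x.1 * y.1) = σ₂ (x.2 * y.2)
        rw [map_mul, map_mul, a, b]
      inv_mem' := fun {x} (a : σ₁ x.1 = σ₂ x.2) => by
        show σ₁ x.1⁻¹ = σ₂ x.2⁻¹
        rw [map_inv, map_inv, a] }
  let q₁ : P →* Γ₁ := (MonoidHom.fst Γ₁ Γ₂).comp P.subtype
  let q₂ : P →* Γ₂ := (MonoidHom.snd Γ₁ Γ₂).comp P.subtype
  let τ : P →* G := σ₁.comp q₁
  have hq₁ : Function.Surjective q₁ := fun a => by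
    obtain ⟨b, hb⟩ := h₂.1 (σ₁ a)
    exact ⟨⟨(a, b), hb.symm⟩, rfl⟩
  have hq₂ : Function.Surjective q₂ := fun b => by
    obtain ⟨a, ha⟩ := h₁.1 (σ₂ b)
    exact ⟨⟨(a, b), ha⟩, rfl⟩
  have hτ₂ : τ = σ₂.comp q₂ := MonoidHom.ext fun x => x.2
  have hτc : τ.ker ≤ Subgroup.center P := fun x hx => by
    have a : x.1.1 ∈ σ₁.ker := hx
    have b : x.1.2 ∈ σ₂.ker := by rw [hτ₂] at hx; exact hx
    exact Subgroup.mem_center_iff.2 fun y => Subtype.ext (Prod.ext
      (Subgroup.mem_center_iff.1 (h₁.2.1 a) _) (Subgroup.mem_center_iff.1 (h₂.2.1 b) _))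
  obtain ⟨hD, hDs⟩ := derived_perfect (τ := τ) (h₁.1.comp hq₁) hτc hG
  set D := commutator P with hDdef
  set τD := τ.comp D.subtype with hτD
  have hDc : τD.ker ≤ Subgroup.center D := fun x hx => Subgroup.mem_center_iff.2 fun y =>
    Subtype.ext (Subgroup.mem_center_iff.1 (hτc hx) y.1)
  have hsur : ∀ {Γ : Type u} [Group Γ] (σ : Γ →* G) (q : P →* Γ), Function.Surjective q →
      commutator Γ = ⊤ → τ = σ.comp q → Nat.card σ.ker ∣ Nat.card τD.ker := by
    intro Γ _ σ q hq hΓ e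
    have hqD : D.map q = ⊤ := by
      rw [hDdef, commutator_def, Subgroup.map_commutator, Subgroup.map_top_of_surjective q hq,
        ← commutator_def, hΓ]
    refine Subgroup.card_dvd_of_surjective
      (((q.comp D.subtype).comp τD.ker.subtype).codRestrict σ.ker fun x => ?_) fun a => ?_
    · have hx : τ x.1.1 = 1 := x.2
      rw [e] at hx
      exact hx
    · obtain ⟨d, hd, ed⟩ := Subgroup.mem_map.1 (hqD ▸ Subgroup.mem_top a.1)
      refine ⟨⟨⟨d, hd⟩, ?_⟩, Subtype.ext ed⟩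
      show τ d = 1
      rw [e]
      show σ (q d) = 1
      rw [ed]
      exact a.2
  have hb := bound τD hDs hDc hD
  have h6 : Nat.card τD.ker = 6 := Nat.dvd_antisymm hb ((by norm_num : Nat.Coprime 2 3).mul_dvd_of_dvd_of_dvd
    (hc₁.trans (hsur σ₁ q₁ hq₁ (hperf h₁) rfl)) (hc₂.trans (hsur σ₂ q₂ hq₂ (hperf h₂) hτ₂)))
  refine ⟨⟨D, inferInstance, inferInstance, τD, ⟨hDs, hDc, by rw [hD]; exact le_top⟩, ?_⟩, fun Δ _ _ ψ hψ => ?_⟩
  · haveI := cyclic_ker τD hDc hb
    exact ⟨mulEquivOfCyclicCardEq (by rw [h6, Nat.card_congr Multiplicative.toAdd, Nat.card_zmod])⟩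
  · have hb' := bound ψ hψ.1 hψ.2.1 (hperf hψ)
    haveI := cyclic_ker ψ hψ.2.1 hb'
    obtain ⟨g, hg⟩ := IsCyclic.exists_generator (α := ψ.ker)
    have hg6 : g ^ 6 = 1 := orderOf_dvd_iff_pow_eq_one.1 ((orderOf_dvd_natCard g).trans hb')
    refine ⟨MonoidHom.mk' (fun a => g ^ (Multiplicative.toAdd a).val) fun a b => ?_, fun y => ?_⟩
    · rw [← pow_add, toAdd_mul, ZMod.val_add, ← pow_eq_pow_mod _ hg6]
    · obtain ⟨k, hk⟩ := (mem_powers_iff_mem_zpowers).2 (hg y)
      refine ⟨Multiplicative.ofAdd (k : ZMod 6), ?_⟩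
      show g ^ ((k : ZMod 6)).val = y
      rw [ZMod.val_natCast, ← pow_eq_pow_mod _ hg6]
      exact hk

end CfsgLib.OmegaSevenMult
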