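import Mathlib

/-!
Points, generators and word of the seven-dimensional orthogonal model (generated).
-/

set_option autoImplicit false
set_option maxRecDepth 100000

namespace CfsgLib.OmegaSevenMult

/-- the points -/
def pointList : List (List (List ℕ)) :=
  [[[0, 0, 0, 1, 0, 0, 1], [0, 0, 0, 1, 0, 1, 1], [0, 0, 0, 1, 0, 2, 1], [0, 0, 0, 1, 1, 0, 1],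
   [0, 0, 0, 1, 1, 1, 1], [0, 0, 0, 1, 1, 2, 1], [0, 0, 0, 1, 2, 0, 1], [0, 0, 0, 1, 2, 1, 1],
   [0, 0, 0, 1, 2, 2, 1], [0, 0, 1, 0, 0, 1, 0], [0, 0, 1, 0, 0, 1, 1], [0, 0, 1, 0, 0, 1, 2],
   [0, 0, 1, 0, 1, 1, 0], [0, 0, 1, 0, 1, 1, 1], [0, 0, 1, 0, 1, 1, 2], [0, 0, 1, 0, 2, 1, 0],
   [0, 0, 1, 0, 2, 1, 1], [0, 0, 1, 0, 2, 1, 2], [0, 0, 1, 1, 0, 0, 1], [0, 0, 1, 1, 0, 1, 0],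
   [0, 0, 1, 1, 0, 2, 2], [0, 0, 1, 1, 1, 0, 1], [0, 0, 1, 1, 1, 1, 0], [0, 0, 1, 1, 1, 2, 2],
   [0, 0, 1, 1, 2, 0, 1], [0, 0, 1, 1, 2, 1, 0], [0, 0, 1, 1, 2, 2, 2], [0, 0, 1, 2, 0, 0, 2],
   [0, 0, 1, 2, 0, 1, 0], [0, 0, 1, 2, 0, 2, 1], [0, 0, 1, 2, 1, 0, 2], [0, 0, 1, 2, 1, 1, 0]],
   [[0, 0, 1, 2, 1, 2, 1], [0, 0, 1, 2, 2, 0, 2], [0, 0, 1, 2, 2, 1, 0], [0, 0, 1, 2, 2, 2, 1],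
   [0, 1, 0, 0, 1, 0, 0], [0, 1, 0, 0, 1, 0, 1], [0, 1, 0, 0, 1, 0, 2], [0, 1, 0, 0, 1, 1, 0],
   [0, 1, 0, 0, 1, 1, 1], [0, 1, 0, 0, 1, 1, 2], [0, 1, 0, 0, 1, 2, 0], [0, 1, 0, 0, 1, 2, 1],
   [0, 1, 0, 0, 1, 2, 2], [0, 1, 0, 1, 0, 0, 1], [0, 1, 0, 1, 0, 1, 1], [0, 1, 0, 1, 0, 2, 1],
   [0, 1, 0, 1, 1, 0, 0], [0, 1, 0, 1, 1, 1, 0], [0, 1, 0, 1, 1, 2, 0], [0, 1, 0, 1, 2, 0, 2],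
   [0, 1, 0, 1, 2, 1, 2], [0, 1, 0, 1, 2, 2, 2], [0, 1, 0, 2, 0, 0, 2], [0, 1, 0, 2, 0, 1, 2],
   [0, 1, 0, 2, 0, 2, 2], [0, 1, 0, 2, 1, 0, 0], [0, 1, 0, 2, 1, 1, 0], [0, 1, 0, 2, 1, 2, 0],
   [0, 1, 0, 2, 2, 0, 1], [0, 1, 0, 2, 2, 1, 1], [0, 1, 0, 2, 2, 2, 1], [0, 1, 1, 0, 0, 1, 0]],
   [[0, 1, 1, 0, 0, 1, 1], [0, 1, 1, 0, 0, 1, 2], [0, 1, 1, 0, 1, 0, 0], [0, 1, 1, 0, 1, 0, 1],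
   [0, 1, 1, 0, 1, 0, 2], [0, 1, 1, 0, 2, 2, 0], [0, 1, 1, 0, 2, 2, 1], [0, 1, 1, 0, 2, 2, 2],
   [0, 1, 1, 1, 0, 0, 1], [0, 1, 1, 1, 0, 1, 0], [0, 1, 1, 1, 0, 2, 2], [0, 1, 1, 1, 1, 0, 0],
   [0, 1, 1, 1, 1, 1, 2], [0, 1, 1, 1, 1, 2, 1], [0, 1, 1, 1, 2, 0, 2], [0, 1, 1, 1, 2, 1, 1],
   [0, 1, 1, 1, 2, 2, 0], [0, 1, 1, 2, 0, 0, 2], [0, 1, 1, 2, 0, 1, 0], [0, 1, 1, 2, 0, 2, 1],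
   [0, 1, 1, 2, 1, 0, 0], [0, 1, 1, 2, 1, 1, 1], [0, 1, 1, 2, 1, 2, 2], [0, 1, 1, 2, 2, 0, 1],
   [0, 1, 1, 2, 2, 1, 2], [0, 1, 1, 2, 2, 2, 0], [0, 1, 2, 0, 0, 2, 0], [0, 1, 2, 0, 0, 2, 1],
   [0, 1, 2, 0, 0, 2, 2], [0, 1, 2, 0, 1, 0, 0], [0, 1, 2, 0, 1, 0, 1], [0, 1, 2, 0, 1, 0, 2]],
   [[0, 1, 2, 0, 2, 1, 0], [0, 1, 2, 0, 2, 1, 1], [0, 1, 2, 0, 2, 1, 2], [0, 1, 2, 1, 0, 0, 1],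
   [0, 1, 2, 1, 0, 1, 2], [0, 1, 2, 1, 0, 2, 0], [0, 1, 2, 1, 1, 0, 0], [0, 1, 2, 1, 1, 1, 1],
   [0, 1, 2, 1, 1, 2, 2], [0, 1, 2, 1, 2, 0, 2], [0, 1, 2, 1, 2, 1, 0], [0, 1, 2, 1, 2, 2, 1],
   [0, 1, 2, 2, 0, 0, 2], [0, 1, 2, 2, 0, 1, 1], [0, 1, 2, 2, 0, 2, 0], [0, 1, 2, 2, 1, 0, 0],
   [0, 1, 2, 2, 1, 1, 2], [0, 1, 2, 2, 1, 2, 1], [0, 1, 2, 2, 2, 0, 1], [0, 1, 2, 2, 2, 1, 0],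
   [0, 1, 2, 2, 2, 2, 2], [1, 0, 0, 0, 0, 0, 0], [1, 0, 0, 0, 0, 0, 1], [1, 0, 0, 0, 0, 0, 2],
   [1, 0, 0, 0, 0, 1, 0], [1, 0, 0, 0, 0, 1, 1], [1, 0, 0, 0, 0, 1, 2], [1, 0, 0, 0, 0, 2, 0],
   [1, 0, 0, 0, 0, 2, 1], [1, 0, 0, 0, 0, 2, 2], [1, 0, 0, 0, 1, 0, 0], [1, 0, 0, 0, 1, 0, 1]],
   [[1, 0, 0, 0, 1, 0, 2], [1, 0, 0, 0, 1, 1, 0], [1, 0, 0, 0, 1, 1, 1], [1, 0, 0, 0, 1, 1, 2],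
   [1, 0, 0, 0, 1, 2, 0], [1, 0, 0, 0, 1, 2, 1], [1, 0, 0, 0, 1, 2, 2], [1, 0, 0, 0, 2, 0, 0],
   [1, 0, 0, 0, 2, 0, 1], [1, 0, 0, 0, 2, 0, 2], [1, 0, 0, 0, 2, 1, 0], [1, 0, 0, 0, 2, 1, 1],
   [1, 0, 0, 0, 2, 1, 2], [1, 0, 0, 0, 2, 2, 0], [1, 0, 0, 0, 2, 2, 1], [1, 0, 0, 0, 2, 2, 2],
   [1, 0, 0, 1, 0, 0, 0], [1, 0, 0, 1, 0, 1, 0], [1, 0, 0, 1, 0, 2, 0], [1, 0, 0, 1, 1, 0, 0],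
   [1, 0, 0, 1, 1, 1, 0], [1, 0, 0, 1, 1, 2, 0], [1, 0, 0, 1, 2, 0, 0], [1, 0, 0, 1, 2, 1, 0],
   [1, 0, 0, 1, 2, 2, 0], [1, 0, 0, 2, 0, 0, 0], [1, 0, 0, 2, 0, 1, 0], [1, 0, 0, 2, 0, 2, 0],
   [1, 0, 0, 2, 1, 0, 0], [1, 0, 0, 2, 1, 1, 0], [1, 0, 0, 2, 1, 2, 0], [1, 0, 0, 2, 2, 0, 0]],
   [[1, 0, 0, 2, 2, 1, 0], [1, 0, 0, 2, 2, 2, 0], [1, 0, 1, 0, 0, 0, 0], [1, 0, 1, 0, 0, 0, 1],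
   [1, 0, 1, 0, 0, 0, 2], [1, 0, 1, 0, 1, 0, 0], [1, 0, 1, 0, 1, 0, 1], [1, 0, 1, 0, 1, 0, 2],
   [1, 0, 1, 0, 2, 0, 0], [1, 0, 1, 0, 2, 0, 1], [1, 0, 1, 0, 2, 0, 2], [1, 0, 1, 1, 0, 0, 0],
   [1, 0, 1, 1, 0, 1, 2], [1, 0, 1, 1, 0, 2, 1], [1, 0, 1, 1, 1, 0, 0], [1, 0, 1, 1, 1, 1, 2],
   [1, 0, 1, 1, 1, 2, 1], [1, 0, 1, 1, 2, 0, 0], [1, 0, 1, 1, 2, 1, 2], [1, 0, 1, 1, 2, 2, 1],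
   [1, 0, 1, 2, 0, 0, 0], [1, 0, 1, 2, 0, 1, 1], [1, 0, 1, 2, 0, 2, 2], [1, 0, 1, 2, 1, 0, 0],
   [1, 0, 1, 2, 1, 1, 1], [1, 0, 1, 2, 1, 2, 2], [1, 0, 1, 2, 2, 0, 0], [1, 0, 1, 2, 2, 1, 1],
   [1, 0, 1, 2, 2, 2, 2], [1, 0, 2, 0, 0, 0, 0], [1, 0, 2, 0, 0, 0, 1], [1, 0, 2, 0, 0, 0, 2]],
   [[1, 0, 2, 0, 1, 0, 0], [1, 0, 2, 0, 1, 0, 1], [1, 0, 2, 0, 1, 0, 2], [1, 0, 2, 0, 2, 0, 0],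
   [1, 0, 2, 0, 2, 0, 1], [1, 0, 2, 0, 2, 0, 2], [1, 0, 2, 1, 0, 0, 0], [1, 0, 2, 1, 0, 1, 1],
   [1, 0, 2, 1, 0, 2, 2], [1, 0, 2, 1, 1, 0, 0], [1, 0, 2, 1, 1, 1, 1], [1, 0, 2, 1, 1, 2, 2],
   [1, 0, 2, 1, 2, 0, 0], [1, 0, 2, 1, 2, 1, 1], [1, 0, 2, 1, 2, 2, 2], [1, 0, 2, 2, 0, 0, 0],
   [1, 0, 2, 2, 0, 1, 2], [1, 0, 2, 2, 0, 2, 1], [1, 0, 2, 2, 1, 0, 0], [1, 0, 2, 2, 1, 1, 2],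
   [1, 0, 2, 2, 1, 2, 1], [1, 0, 2, 2, 2, 0, 0], [1, 0, 2, 2, 2, 1, 2], [1, 0, 2, 2, 2, 2, 1],
   [1, 1, 0, 0, 0, 0, 0], [1, 1, 0, 0, 0, 0, 1], [1, 1, 0, 0, 0, 0, 2], [1, 1, 0, 0, 0, 1, 0],
   [1, 1, 0, 0, 0, 1, 1], [1, 1, 0, 0, 0, 1, 2], [1, 1, 0, 0, 0, 2, 0], [1, 1, 0, 0, 0, 2, 1]],
   [[1, 1, 0, 0, 0, 2, 2], [1, 1, 0, 1, 0, 0, 0], [1, 1, 0, 1, 0, 1, 0], [1, 1, 0, 1, 0, 2, 0],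
   [1, 1, 0, 1, 1, 0, 2], [1, 1, 0, 1, 1, 1, 2], [1, 1, 0, 1, 1, 2, 2], [1, 1, 0, 1, 2, 0, 1],
   [1, 1, 0, 1, 2, 1, 1], [1, 1, 0, 1, 2, 2, 1], [1, 1, 0, 2, 0, 0, 0], [1, 1, 0, 2, 0, 1, 0],
   [1, 1, 0, 2, 0, 2, 0], [1, 1, 0, 2, 1, 0, 1], [1, 1, 0, 2, 1, 1, 1], [1, 1, 0, 2, 1, 2, 1],
   [1, 1, 0, 2, 2, 0, 2], [1, 1, 0, 2, 2, 1, 2], [1, 1, 0, 2, 2, 2, 2], [1, 1, 1, 0, 0, 0, 0],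
   [1, 1, 1, 0, 0, 0, 1], [1, 1, 1, 0, 0, 0, 2], [1, 1, 1, 0, 1, 2, 0], [1, 1, 1, 0, 1, 2, 1],
   [1, 1, 1, 0, 1, 2, 2], [1, 1, 1, 0, 2, 1, 0], [1, 1, 1, 0, 2, 1, 1], [1, 1, 1, 0, 2, 1, 2],
   [1, 1, 1, 1, 0, 0, 0], [1, 1, 1, 1, 0, 1, 2], [1, 1, 1, 1, 0, 2, 1], [1, 1, 1, 1, 1, 0, 2]],
   [[1, 1, 1, 1, 1, 1, 1], [1, 1, 1, 1, 1, 2, 0], [1, 1, 1, 1, 2, 0, 1], [1, 1, 1, 1, 2, 1, 0],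
   [1, 1, 1, 1, 2, 2, 2], [1, 1, 1, 2, 0, 0, 0], [1, 1, 1, 2, 0, 1, 1], [1, 1, 1, 2, 0, 2, 2],
   [1, 1, 1, 2, 1, 0, 1], [1, 1, 1, 2, 1, 1, 2], [1, 1, 1, 2, 1, 2, 0], [1, 1, 1, 2, 2, 0, 2],
   [1, 1, 1, 2, 2, 1, 0], [1, 1, 1, 2, 2, 2, 1], [1, 1, 2, 0, 0, 0, 0], [1, 1, 2, 0, 0, 0, 1],
   [1, 1, 2, 0, 0, 0, 2], [1, 1, 2, 0, 1, 1, 0], [1, 1, 2, 0, 1, 1, 1], [1, 1, 2, 0, 1, 1, 2],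
   [1, 1, 2, 0, 2, 2, 0], [1, 1, 2, 0, 2, 2, 1], [1, 1, 2, 0, 2, 2, 2], [1, 1, 2, 1, 0, 0, 0],
   [1, 1, 2, 1, 0, 1, 1], [1, 1, 2, 1, 0, 2, 2], [1, 1, 2, 1, 1, 0, 2], [1, 1, 2, 1, 1, 1, 0],
   [1, 1, 2, 1, 1, 2, 1], [1, 1, 2, 1, 2, 0, 1], [1, 1, 2, 1, 2, 1, 2], [1, 1, 2, 1, 2, 2, 0]],
   [[1, 1, 2, 2, 0, 0, 0], [1, 1, 2, 2, 0, 1, 2], [1, 1, 2, 2, 0, 2, 1], [1, 1, 2, 2, 1, 0, 1],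
   [1, 1, 2, 2, 1, 1, 0], [1, 1, 2, 2, 1, 2, 2], [1, 1, 2, 2, 2, 0, 2], [1, 1, 2, 2, 2, 1, 1],
   [1, 1, 2, 2, 2, 2, 0], [1, 2, 0, 0, 0, 0, 0], [1, 2, 0, 0, 0, 0, 1], [1, 2, 0, 0, 0, 0, 2],
   [1, 2, 0, 0, 0, 1, 0], [1, 2, 0, 0, 0, 1, 1], [1, 2, 0, 0, 0, 1, 2], [1, 2, 0, 0, 0, 2, 0],
   [1, 2, 0, 0, 0, 2, 1], [1, 2, 0, 0, 0, 2, 2], [1, 2, 0, 1, 0, 0, 0], [1, 2, 0, 1, 0, 1, 0],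
   [1, 2, 0, 1, 0, 2, 0], [1, 2, 0, 1, 1, 0, 1], [1, 2, 0, 1, 1, 1, 1], [1, 2, 0, 1, 1, 2, 1],
   [1, 2, 0, 1, 2, 0, 2], [1, 2, 0, 1, 2, 1, 2], [1, 2, 0, 1, 2, 2, 2], [1, 2, 0, 2, 0, 0, 0],
   [1, 2, 0, 2, 0, 1, 0], [1, 2, 0, 2, 0, 2, 0], [1, 2, 0, 2, 1, 0, 2], [1, 2, 0, 2, 1, 1, 2]],
   [[1, 2, 0, 2, 1, 2, 2], [1, 2, 0, 2, 2, 0, 1], [1, 2, 0, 2, 2, 1, 1], [1, 2, 0, 2, 2, 2, 1],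
   [1, 2, 1, 0, 0, 0, 0], [1, 2, 1, 0, 0, 0, 1], [1, 2, 1, 0, 0, 0, 2], [1, 2, 1, 0, 1, 1, 0],
   [1, 2, 1, 0, 1, 1, 1], [1, 2, 1, 0, 1, 1, 2], [1, 2, 1, 0, 2, 2, 0], [1, 2, 1, 0, 2, 2, 1],
   [1, 2, 1, 0, 2, 2, 2], [1, 2, 1, 1, 0, 0, 0], [1, 2, 1, 1, 0, 1, 2], [1, 2, 1, 1, 0, 2, 1],
   [1, 2, 1, 1, 1, 0, 1], [1, 2, 1, 1, 1, 1, 0], [1, 2, 1, 1, 1, 2, 2], [1, 2, 1, 1, 2, 0, 2],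
   [1, 2, 1, 1, 2, 1, 1], [1, 2, 1, 1, 2, 2, 0], [1, 2, 1, 2, 0, 0, 0], [1, 2, 1, 2, 0, 1, 1],
   [1, 2, 1, 2, 0, 2, 2], [1, 2, 1, 2, 1, 0, 2], [1, 2, 1, 2, 1, 1, 0], [1, 2, 1, 2, 1, 2, 1],
   [1, 2, 1, 2, 2, 0, 1], [1, 2, 1, 2, 2, 1, 2], [1, 2, 1, 2, 2, 2, 0], [1, 2, 2, 0, 0, 0, 0]],
   [[1, 2, 2, 0, 0, 0, 1], [1, 2, 2, 0, 0, 0, 2], [1, 2, 2, 0, 1, 2, 0], [1, 2, 2, 0, 1, 2, 1],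
   [1, 2, 2, 0, 1, 2, 2], [1, 2, 2, 0, 2, 1, 0], [1, 2, 2, 0, 2, 1, 1], [1, 2, 2, 0, 2, 1, 2],
   [1, 2, 2, 1, 0, 0, 0], [1, 2, 2, 1, 0, 1, 1], [1, 2, 2, 1, 0, 2, 2], [1, 2, 2, 1, 1, 0, 1],
   [1, 2, 2, 1, 1, 1, 2], [1, 2, 2, 1, 1, 2, 0], [1, 2, 2, 1, 2, 0, 2], [1, 2, 2, 1, 2, 1, 0],
   [1, 2, 2, 1, 2, 2, 1], [1, 2, 2, 2, 0, 0, 0], [1, 2, 2, 2, 0, 1, 2], [1, 2, 2, 2, 0, 2, 1],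
   [1, 2, 2, 2, 1, 0, 2], [1, 2, 2, 2, 1, 1, 1], [1, 2, 2, 2, 1, 2, 0], [1, 2, 2, 2, 2, 0, 1],
   [1, 2, 2, 2, 2, 1, 0], [1, 2, 2, 2, 2, 2, 2]]]

/-- matrices whose commutators are the generators, with their inverses -/
def genPairs : List (List (List ℕ) × List (List ℕ)) :=
  [([[0, 2, 2, 0, 0, 2, 1], [2, 2, 1, 2, 1, 0, 0], [1, 0, 2, 1, 2, 0, 2], [0, 2, 0, 2, 1, 1, 2], [0, 0, 0, 0, 2, 1, 1], [1, 0, 1, 2, 0, 1, 2], [0, 1, 2, 2, 1, 2, 2]], [[0, 0, 2, 0, 1, 2, 0], [0, 2, 0, 1, 1, 2, 1], [1, 1, 1, 2, 0, 0, 1], [2, 1, 2, 2, 0, 2, 2], [1, 0, 0, 1, 2, 0, 2], [1, 0, 1, 2, 1, 2, 0], [0, 0, 2, 2, 2, 1, 2]]),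
   ([[2, 2, 1, 2, 1, 0, 2], [0, 0, 0, 0, 1, 0, 2], [0, 0, 1, 0, 2, 0, 1], [2, 1, 2, 1, 2, 0, 0], [0, 1, 2, 0, 1, 1, 1], [2, 1, 2, 1, 0, 1, 0], [0, 2, 0, 2, 2, 0, 1]], [[2, 0, 1, 0, 0, 0, 1], [2, 1, 0, 2, 1, 2, 2], [0, 1, 1, 0, 0, 0, 0], [1, 1, 0, 1, 2, 1, 0], [1, 1, 1, 2, 0, 0, 1], [2, 2, 2, 0, 0, 1, 2], [1, 0, 1, 2, 0, 0, 1]]),
   ([[1, 0, 1, 1, 1, 0, 0], [2, 1, 1, 1, 1, 2, 2], [0, 0, 0, 2, 2, 0, 0], [0, 0, 1, 2, 0, 0, 0], [0, 0, 2, 1, 1, 0, 0], [1, 0, 1, 0, 2, 2, 2], [0, 1, 0, 2, 2, 0, 2]], [[1, 0, 2, 0, 1, 0, 0], [2, 1, 2, 2, 1, 2, 0], [0, 0, 2, 0, 2, 0, 0], [0, 0, 2, 2, 2, 0, 0], [0, 0, 0, 1, 1, 0, 0], [2, 2, 1, 0, 1, 0, 1], [2, 1, 0, 2, 1, 2, 2]]),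
   ([[0, 1, 1, 0, 2, 2, 2], [2, 0, 0, 1, 0, 1, 2], [1, 2, 2, 1, 1, 1, 1], [2, 0, 0, 1, 2, 2, 2], [1, 0, 2, 0, 1, 1, 1], [1, 1, 1, 1, 1, 2, 2], [2, 0, 1, 2, 2, 1, 2]], [[0, 2, 2, 1, 1, 2, 1], [1, 1, 1, 2, 0, 1, 2], [1, 1, 2, 1, 1, 1, 2], [1, 1, 2, 2, 2, 1, 2], [2, 0, 1, 0, 0, 2, 0], [2, 2, 1, 1, 0, 2, 0], [0, 0, 1, 2, 1, 1, 1]])]

/-- the balanced word of the cover -/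
def word : List ℕ :=
  [24, 1, 0, 25, 24, 1, 0, 25, 24, 1, 0, 25, 24, 1, 0, 25, 24, 1, 0, 25, 24, 1, 0, 25, 24, 1, 0, 25, 24, 1, 0, 25, 24, 1, 0, 25, 24, 1, 0, 25, 24, 1, 0, 25, 24, 1, 0, 25, 24, 1, 0, 25]

/-- the matrices of the generators -/
def genTab : List (List (List ℕ)) :=
  [[[1, 0, 1, 1, 1, 1, 2], [1, 2, 0, 0, 1, 2, 0], [0, 0, 1, 2, 2, 2, 2], [0, 0, 0, 2, 0, 2, 0], [0, 0, 1, 1, 1, 1, 2], [0, 1, 2, 1, 2, 0, 1], [0, 1, 1, 0, 0, 0, 1]],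
   [[2, 1, 0, 1, 1, 1, 2], [0, 1, 0, 0, 0, 0, 2], [1, 1, 2, 2, 2, 1, 2], [1, 1, 1, 0, 0, 2, 0], [2, 2, 0, 2, 0, 2, 1], [1, 1, 1, 1, 1, 1, 0], [2, 2, 1, 2, 2, 2, 1]]]

/-- the index of a point by the code of a vector -/
def idxTab : List (List ℕ) :=
  [[0, 117, 117, 0, 216, 297, 0, 297, 216, 0, 162, 189, 0, 243, 351, 0, 324, 270, 0, 189, 162, 0, 270, 324, 0, 351, 243, 0, 144, 153, 0, 225],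
   [315, 0, 306, 234, 0, 171, 207, 0, 252, 369, 0, 333, 288, 0, 198, 180, 0, 279, 342, 0, 360, 261, 0, 153, 144, 0, 234, 306, 0, 315, 225, 0],
   [180, 198, 0, 261, 360, 0, 342, 279, 0, 207, 171, 0, 288, 333, 0, 369, 252, 0, 126, 135, 36, 0, 0, 0, 0, 0, 0, 165, 195, 66, 0, 0],
   [0, 0, 0, 0, 192, 168, 93, 0, 0, 0, 0, 0, 0, 147, 159, 48, 0, 0, 0, 0, 0, 0, 174, 213, 75, 0, 0, 0, 0, 0, 0, 201],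
   [186, 102, 0, 0, 0, 0, 0, 0, 156, 150, 57, 0, 0, 0, 0, 0, 0, 183, 204, 84, 0, 0, 0, 0, 0, 0, 210, 177, 111, 0, 0, 0],
   [0, 0, 0, 135, 126, 0, 0, 0, 36, 0, 0, 0, 168, 192, 0, 0, 0, 93, 0, 0, 0, 195, 165, 0, 0, 0, 66, 0, 0, 0, 150, 156],
   [0, 0, 0, 57, 0, 0, 0, 177, 210, 0, 0, 0, 111, 0, 0, 0, 204, 183, 0, 0, 0, 84, 0, 0, 0, 159, 147, 0, 0, 0, 48, 0],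
   [0, 0, 186, 201, 0, 0, 0, 102, 0, 0, 0, 213, 174, 0, 0, 0, 75, 0, 0, 0, 120, 123, 0, 219, 303, 0, 300, 222, 9, 0, 0, 63],
   [0, 0, 90, 0, 0, 0, 0, 0, 0, 0, 0, 0, 0, 0, 0, 145, 155, 0, 226, 317, 0, 307, 236, 19, 0, 0, 73, 0, 0, 110, 0, 0],
   [0, 0, 0, 0, 0, 0, 0, 0, 0, 0, 154, 146, 0, 235, 308, 0, 316, 227, 28, 0, 0, 82, 0, 0, 101, 0, 0, 0, 0, 0, 0, 0],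
   [0, 0, 0, 0, 0, 129, 141, 39, 0, 0, 0, 0, 0, 12, 0, 0, 0, 0, 0, 0, 327, 276, 0, 0, 0, 0, 273, 330, 69, 0, 0, 0],
   [148, 161, 49, 0, 0, 0, 0, 0, 22, 0, 0, 0, 0, 0, 0, 337, 296, 0, 0, 0, 0, 283, 350, 89, 0, 0, 0, 157, 152, 58, 0, 0],
   [0, 0, 0, 31, 0, 0, 0, 0, 0, 0, 346, 287, 0, 0, 0, 0, 292, 341, 80, 0, 0, 0, 138, 132, 0, 0, 0, 42, 0, 0, 15, 0],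
   [0, 0, 249, 354, 0, 0, 0, 0, 0, 0, 96, 0, 0, 0, 357, 246, 0, 151, 158, 0, 0, 0, 59, 0, 0, 25, 0, 0, 0, 259, 374, 0],
   [0, 0, 0, 0, 0, 106, 0, 0, 0, 367, 266, 0, 160, 149, 0, 0, 0, 50, 0, 0, 34, 0, 0, 0, 268, 365, 0, 0, 0, 0, 0, 0],
   [115, 0, 0, 0, 376, 257, 0, 123, 120, 0, 222, 300, 0, 303, 219, 0, 0, 0, 0, 0, 0, 0, 0, 0, 9, 0, 0, 90, 0, 0, 63, 0],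
   [0, 0, 146, 154, 0, 227, 316, 0, 308, 235, 0, 0, 0, 0, 0, 0, 0, 0, 0, 28, 0, 0, 101, 0, 0, 82, 0, 0, 0, 155, 145, 0],
   [236, 307, 0, 317, 226, 0, 0, 0, 0, 0, 0, 0, 0, 0, 19, 0, 0, 110, 0, 0, 73, 0, 0, 0, 132, 138, 42, 0, 0, 0, 0, 0],
   [0, 0, 0, 0, 246, 357, 96, 0, 0, 15, 0, 0, 0, 0, 0, 0, 354, 249, 0, 149, 160, 50, 0, 0, 0, 0, 0, 0, 0, 0, 0, 257],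
   [376, 115, 0, 0, 34, 0, 0, 0, 0, 0, 0, 365, 268, 0, 158, 151, 59, 0, 0, 0, 0, 0, 0, 0, 0, 0, 266, 367, 106, 0, 0, 25],
   [0, 0, 0, 0, 0, 0, 374, 259, 0, 141, 129, 0, 0, 0, 39, 0, 0, 0, 0, 0, 69, 0, 0, 0, 330, 273, 12, 0, 0, 0, 276, 327],
   [0, 0, 0, 0, 152, 157, 0, 0, 0, 58, 0, 0, 0, 0, 0, 80, 0, 0, 0, 341, 292, 31, 0, 0, 0, 287, 346, 0, 0, 0, 0, 161],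
   [148, 0, 0, 0, 49, 0, 0, 0, 0, 0, 89, 0, 0, 0, 350, 283, 22, 0, 0, 0, 296, 337, 0, 0, 0, 0, 118, 119, 0, 217, 299, 0],
   [298, 218, 0, 163, 191, 0, 244, 353, 0, 325, 272, 0, 190, 164, 0, 271, 326, 0, 352, 245, 0, 0, 0, 45, 0, 0, 54, 0, 0, 18, 0, 0],
   [72, 0, 0, 108, 0, 0, 27, 0, 0, 99, 0, 0, 81, 0, 0, 0, 0, 0, 0, 0, 0, 0, 0, 0, 0, 0, 0, 0, 0, 0, 0, 0],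
   [0, 0, 0, 0, 0, 0, 0, 0, 0, 0, 0, 127, 137, 37, 0, 0, 0, 0, 0, 0, 166, 197, 67, 0, 0, 0, 0, 0, 0, 193, 170, 94],
   [0, 0, 0, 0, 0, 3, 0, 0, 0, 0, 0, 0, 309, 240, 21, 0, 0, 0, 0, 0, 0, 336, 294, 33, 0, 0, 0, 0, 0, 0, 363, 267],
   [0, 0, 0, 0, 237, 312, 51, 0, 0, 0, 0, 0, 0, 264, 366, 105, 0, 0, 0, 0, 0, 0, 291, 339, 78, 0, 0, 0, 136, 128, 0, 0],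
   [0, 38, 0, 0, 0, 169, 194, 0, 0, 0, 95, 0, 0, 0, 196, 167, 0, 0, 0, 68, 0, 0, 6, 0, 0, 0, 231, 318, 0, 0, 0, 24],
   [0, 0, 0, 258, 372, 0, 0, 0, 30, 0, 0, 0, 285, 345, 0, 0, 0, 0, 0, 0, 60, 0, 0, 0, 321, 228, 0, 0, 0, 87, 0, 0],
   [0, 348, 282, 0, 0, 0, 114, 0, 0, 0, 375, 255, 0, 121, 125, 0, 220, 305, 0, 301, 224, 10, 0, 0, 64, 0, 0, 92, 0, 0, 0, 0],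
   [0, 0, 0, 0, 0, 0, 0, 1, 0, 0, 46, 0, 0, 56, 0, 0, 0, 0, 0, 0, 0, 0, 0, 0, 0, 0, 199, 182, 0, 280, 344, 0],
   [361, 263, 0, 0, 0, 0, 0, 0, 0, 0, 0, 0, 181, 200, 0, 262, 362, 0, 343, 281, 20, 0, 0, 109, 0, 0, 74, 0, 0, 0, 130, 143],
   [40, 0, 0, 0, 0, 0, 13, 0, 0, 0, 0, 0, 0, 328, 278, 0, 0, 0, 0, 274, 332, 71, 0, 0, 4, 0, 0, 0, 0, 0, 0, 310],
   [242, 0, 0, 0, 0, 256, 377, 116, 0, 0, 0, 202, 188, 103, 0, 0, 0, 0, 0, 0, 0, 0, 0, 238, 314, 53, 0, 0, 0, 184, 206, 85],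
   [0, 0, 0, 0, 0, 26, 0, 0, 0, 0, 0, 0, 373, 260, 0, 139, 134, 0, 0, 0, 44, 0, 0, 16, 0, 0, 0, 250, 356, 0, 0, 0],
   [0, 0, 0, 97, 0, 0, 0, 358, 248, 7, 0, 0, 0, 232, 320, 0, 0, 0, 0, 0, 0, 79, 0, 0, 0, 340, 293, 0, 205, 185, 0, 0],
   [0, 86, 0, 0, 0, 0, 0, 61, 0, 0, 0, 322, 230, 0, 187, 203, 0, 0, 0, 104, 0, 0, 23, 0, 0, 0, 295, 338, 0, 0, 0, 0],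
   [124, 122, 0, 223, 302, 0, 304, 221, 0, 0, 0, 0, 0, 0, 0, 0, 0, 11, 0, 0, 91, 0, 0, 65, 0, 0, 2, 0, 0, 47, 0, 0],
   [55, 0, 0, 0, 173, 208, 0, 254, 370, 0, 335, 289, 0, 0, 0, 0, 0, 0, 0, 0, 0, 0, 0, 0, 0, 0, 0, 0, 0, 0, 29, 0],
   [0, 83, 0, 0, 100, 0, 0, 0, 209, 172, 0, 290, 334, 0, 371, 253, 0, 133, 140, 43, 0, 0, 0, 0, 0, 0, 0, 0, 0, 247, 359, 98],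
   [0, 0, 17, 0, 0, 0, 0, 0, 0, 355, 251, 5, 0, 0, 0, 0, 0, 0, 311, 241, 0, 176, 214, 77, 0, 0, 0, 0, 0, 0, 0, 0],
   [0, 284, 349, 88, 0, 0, 0, 0, 0, 0, 239, 313, 52, 0, 0, 32, 0, 0, 0, 0, 0, 0, 347, 286, 0, 212, 178, 113, 0, 0, 0, 0],
   [0, 0, 142, 131, 0, 0, 0, 41, 0, 0, 0, 0, 0, 70, 0, 0, 0, 331, 275, 14, 0, 0, 0, 277, 329, 0, 0, 0, 8, 0, 0, 0],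
   [233, 319, 0, 0, 0, 0, 179, 211, 0, 0, 0, 112, 0, 0, 0, 0, 0, 107, 0, 0, 0, 368, 265, 0, 0, 0, 62, 0, 0, 0, 323, 229],
   [35, 0, 0, 0, 269, 364, 0, 0, 0, 0, 215, 175, 0, 0, 0, 76, 0, 0, 0, 119, 118, 0, 218, 298, 0, 299, 217, 0, 164, 190, 0, 245],
   [352, 0, 326, 271, 0, 191, 163, 0, 272, 325, 0, 353, 244, 0, 0, 0, 0, 0, 0, 0, 0, 0, 0, 0, 0, 0, 0, 0, 0, 0, 0, 0],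
   [0, 0, 0, 0, 0, 0, 0, 0, 0, 0, 0, 54, 0, 0, 45, 0, 0, 27, 0, 0, 81, 0, 0, 99, 0, 0, 18, 0, 0, 108, 0, 0],
   [72, 0, 0, 0, 128, 136, 38, 0, 0, 0, 0, 0, 0, 167, 196, 68, 0, 0, 0, 0, 0, 0, 194, 169, 95, 0, 0, 0, 0, 0, 0, 0],
   [0, 0, 228, 321, 60, 0, 0, 0, 0, 0, 0, 255, 375, 114, 0, 0, 0, 0, 0, 0, 282, 348, 87, 0, 0, 6, 0, 0, 0, 0, 0, 0],
   [318, 231, 30, 0, 0, 0, 0, 0, 0, 345, 285, 24, 0, 0, 0, 0, 0, 0, 372, 258, 0, 137, 127, 0, 0, 0, 37, 0, 0, 0, 170, 193],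
   [0, 0, 0, 94, 0, 0, 0, 197, 166, 0, 0, 0, 67, 0, 0, 0, 0, 0, 51, 0, 0, 0, 312, 237, 0, 0, 0, 78, 0, 0, 0, 339],
   [291, 0, 0, 0, 105, 0, 0, 0, 366, 264, 3, 0, 0, 0, 240, 309, 0, 0, 0, 33, 0, 0, 0, 267, 363, 0, 0, 0, 21, 0, 0, 0],
   [294, 336, 0, 0, 0, 0, 122, 124, 0, 221, 304, 0, 302, 223, 11, 0, 0, 65, 0, 0, 91, 0, 0, 0, 0, 0, 0, 0, 0, 0, 0, 0],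
   [0, 0, 0, 0, 0, 0, 0, 0, 0, 0, 172, 209, 0, 253, 371, 0, 334, 290, 29, 0, 0, 100, 0, 0, 83, 0, 0, 2, 0, 0, 55, 0],
   [0, 47, 0, 0, 0, 0, 0, 0, 0, 0, 0, 0, 0, 0, 208, 173, 0, 289, 335, 0, 370, 254, 0, 131, 142, 41, 0, 0, 0, 0, 0, 14],
   [0, 0, 0, 0, 0, 0, 329, 277, 0, 0, 0, 0, 275, 331, 70, 0, 0, 0, 0, 0, 0, 229, 323, 62, 0, 0, 0, 175, 215, 76, 0, 0],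
   [0, 0, 0, 35, 0, 0, 0, 0, 0, 0, 364, 269, 8, 0, 0, 0, 0, 0, 0, 319, 233, 0, 0, 0, 0, 265, 368, 107, 0, 0, 0, 211],
   [179, 112, 0, 0, 0, 0, 0, 0, 140, 133, 0, 0, 0, 43, 0, 0, 17, 0, 0, 0, 251, 355, 0, 0, 0, 0, 0, 0, 98, 0, 0, 0],
   [359, 247, 0, 0, 0, 52, 0, 0, 0, 313, 239, 0, 178, 212, 0, 0, 0, 113, 0, 0, 32, 0, 0, 0, 286, 347, 0, 0, 0, 5, 0, 0],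
   [0, 241, 311, 0, 0, 0, 0, 0, 0, 88, 0, 0, 0, 349, 284, 0, 214, 176, 0, 0, 0, 77, 0, 0, 0, 125, 121, 0, 224, 301, 0, 305],
   [220, 0, 0, 0, 0, 0, 0, 0, 0, 0, 10, 0, 0, 92, 0, 0, 64, 0, 0, 0, 0, 0, 0, 0, 0, 0, 0, 0, 20, 0, 0, 74],
   [0, 0, 109, 0, 0, 0, 200, 181, 0, 281, 343, 0, 362, 262, 1, 0, 0, 56, 0, 0, 46, 0, 0, 0, 182, 199, 0, 263, 361, 0, 344, 280],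
   [0, 0, 0, 0, 0, 0, 0, 0, 0, 0, 134, 139, 44, 0, 0, 0, 0, 0, 0, 0, 0, 0, 248, 358, 97, 0, 0, 16, 0, 0, 0, 0],
   [0, 0, 356, 250, 0, 0, 0, 0, 230, 322, 61, 0, 0, 23, 0, 0, 0, 0, 0, 0, 338, 295, 0, 203, 187, 104, 0, 0, 0, 0, 0, 7],
   [0, 0, 0, 0, 0, 0, 320, 232, 0, 185, 205, 86, 0, 0, 0, 0, 0, 0, 0, 0, 0, 293, 340, 79, 0, 0, 0, 143, 130, 0, 0, 0],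
   [40, 0, 0, 0, 0, 0, 71, 0, 0, 0, 332, 274, 13, 0, 0, 0, 278, 328, 0, 0, 0, 0, 0, 0, 53, 0, 0, 0, 314, 238, 26, 0],
   [0, 0, 260, 373, 0, 0, 0, 0, 206, 184, 0, 0, 0, 85, 0, 0, 4, 0, 0, 0, 242, 310, 0, 0, 0, 0, 188, 202, 0, 0, 0, 103],
   [0, 0, 0, 0, 0, 116, 0, 0, 0, 377, 256]]

end CfsgLib.OmegaSevenMult
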