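import Cfsg.Agent.Lib.OmegaSevenMult.Vectors
import Cfsg.Agent.Lib.OmegaSevenMult.DataT
import Cfsg.Agent.Lib.OmegaSevenMult.Points

/-!
The seven-dimensional orthogonal group over three elements and its action on 378 points.
-/

set_option autoImplicit false
set_option Elab.async false
set_option maxRecDepth 100000

namespace CfsgLib.OmegaSevenMult

open Matrix
open scoped commutatorElement

/-- position of a coordinate -/
def pos : Ix → ℕ
  | .inl _ => 0
  | .inr (.inl i) => 1 + i
  | .inr (.inr i) => 4 + i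

/-- the matrix of a table -/
def mat (L : List (List ℕ)) : Matrix Ix Ix F3 := fun i j => ((L.getD (pos i) []).getD (pos j) 0 : F3)

/-- a point -/
def pt (i : ℕ) : Ix → F3 := fun a =>
  ((((pointList.getD (i / 32) []).getD (i % 32) []).getD (pos a) 0 : ℕ) : F3)

/-- the pairs and their inverses -/
def elemTab (k : Fin 4) : List (List ℕ) × List (List ℕ) := genPairs.getD k ([], [])

theorem elemTab_inv : ∀ k : Fin 4, mat (elemTab k).1 * mat (elemTab k).2 = 1 ∧
    mat (elemTab k).2 * mat (elemTab k).1 = 1 := by decide +kernel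

theorem elemTab_isometry0 : ∀ v : Ix → F3, q7 (mat (elemTab 0).1 *ᵥ v) = q7 v := by
  decide +kernel

theorem elemTab_isometry1 : ∀ v : Ix → F3, q7 (mat (elemTab 1).1 *ᵥ v) = q7 v := by
  decide +kernel

theorem elemTab_isometry2 : ∀ v : Ix → F3, q7 (mat (elemTab 2).1 *ᵥ v) = q7 v := by
  decide +kernel

theorem elemTab_isometry3 : ∀ v : Ix → F3, q7 (mat (elemTab 3).1 *ᵥ v) = q7 v := by
  decide +kernel

theorem elemTab_isometry : ∀ k : Fin 4, ∀ v : Ix → F3, q7 (mat (elemTab k).1 *ᵥ v) = q7 v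
  | 0 => elemTab_isometry0
  | 1 => elemTab_isometry1
  | 2 => elemTab_isometry2
  | 3 => elemTab_isometry3

/-- the four isometries -/
def iso (k : Fin 4) : Cfsg.isometryGroup F3 q7 :=
  ⟨⟨mat (elemTab k).1, mat (elemTab k).2, (elemTab_inv k).1, (elemTab_inv k).2⟩,
    fun u _ => elemTab_isometry k u⟩

/-- the generators in `Ω` -/
def Xl : ℕ → Cfsg.Omega F3 q7
  | 0 => ⟨⁅iso 0, iso 1⁆, Subgroup.commutator_mem_commutator (Subgroup.mem_top _) (Subgroup.mem_top _)⟩
  | _ => ⟨⁅iso 2, iso 3⁆, Subgroup.commutator_mem_commutator (Subgroup.mem_top _) (Subgroup.mem_top _)⟩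

/-- the matrix of a generator -/
def genMat : Fin 2 → Matrix Ix Ix F3
  | 0 => mat (elemTab 0).1 * mat (elemTab 1).1 * mat (elemTab 0).2 * mat (elemTab 1).2
  | 1 => mat (elemTab 2).1 * mat (elemTab 3).1 * mat (elemTab 2).2 * mat (elemTab 3).2

theorem coe_Xl (j : Fin 2) :
    ((((Xl j : Cfsg.Omega F3 q7) : Cfsg.isometryGroup F3 q7) : GL Ix F3) : Matrix Ix Ix F3) = genMat j := by
  fin_cases j <;> rfl

/-- the table of a generator -/
def genM (j : Fin 2) : Matrix Ix Ix F3 := mat (genTab.getD j [])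

theorem genMat_eq : ∀ j : Fin 2, genMat j = genM j := by decide +kernel

/-- the index of a vector -/
def idxOf (v : Ix → F3) : ℕ :=
  let n := (v (.inl ())).val + 3 * ((v (.inr (.inl 0))).val + 3 * ((v (.inr (.inl 1))).val +
    3 * ((v (.inr (.inl 2))).val + 3 * ((v (.inr (.inr 0))).val + 3 * ((v (.inr (.inr 1))).val +
    3 * (v (.inr (.inr 2))).val)))))
  (idxTab.getD (n / 32) []).getD (n % 32) 0

/-- the pair of a vector -/
def pr (v : Ix → F3) : Finset (Ix → F3) := {v, -v}

theorem pt_q : ∀ i : Fin 378, q7 (pt i) = 1 := by decide +kernel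

theorem idx_pt : ∀ i : Fin 378, idxOf (pt i) = i ∧ idxOf (-pt i) = i := by decide +kernel

theorem idx_vec : ∀ v : Ix → F3, q7 v = 1 →
    idxOf v < 378 ∧ (v = pt (idxOf v) ∨ v = -pt (idxOf v)) := by decide +kernel

theorem pt_complete (v : Ix → F3) (hv : q7 v = 1) : ∃ i : Fin 378, v = pt i ∨ v = -pt i :=
  ⟨⟨idxOf v, (idx_vec v hv).1⟩, (idx_vec v hv).2⟩

theorem pt_distinct (i j : Fin 378) (h : pt i = pt j ∨ pt i = -pt j) : i = j := by
  have hi := (idx_pt i).1
  rcases h with h | h <;> rw [h] at hi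
  · exact Fin.ext (hi.symm.trans (idx_pt j).1)
  · exact Fin.ext (hi.symm.trans (idx_pt j).2)

theorem genChk : ∀ j : Fin 2, ∀ i : Fin 378, dataT.img j i < 378 ∧
    (genM j *ᵥ pt i = pt (dataT.img j i) ∨ genM j *ᵥ pt i = -pt (dataT.img j i)) := by decide +kernel

theorem gens0 : ∀ g ∈ dataT.gens 0, g = 0 ∨ g = 1 := by decide +kernel

theorem orbitProd_eq : CfsgLib.Schur.MonoCover.Data.orbitProd dataT 0 dataT.nlev = 4585351680 := by
  decide +kernel

theorem wordChk : ((word.all fun i => decide (i < 2 * dataT.ng) &&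
      decide ((if i < dataT.ng then i else i - dataT.ng) ∈ dataT.gens 0)) &&
    (List.range dataT.ng).all (fun j => Nat.beq (word.count j) (word.count (dataT.ng + j))) &&
    dataT.eqW 1 word []) = true := by decide +kernel

end CfsgLib.OmegaSevenMult
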