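import Cfsg.Agent.Lib.Classical.OrthCenter
import Cfsg.Agent.Lib.Classical.OrthOrderStd
import Cfsg.Agent.Lib.Classical.OmegaOnto
import Cfsg.Agent.Lib.Classical.OrthPOrder
import Cfsg.Agent.Lib.Schur.FamilyAction
import Cfsg.Agent.Lib.OmegaSevenMult.ModelChk

/-!
The action of `Ω₇(3)` on the 378 pairs of vectors of norm one, and the order of `Ω₇(3)`.
-/

set_option autoImplicit false
set_option maxRecDepth 100000

namespace CfsgLib.OmegaSevenMult

open Matrix CfsgLib.Orth

theorem pr_neg (v : Ix → F3) : pr (-v) = pr v := by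
  rw [pr, pr, neg_neg, Finset.pair_comm]

theorem pr_inj {v w : Ix → F3} (h : pr v = pr w) : v = w ∨ v = -w := by
  have : v ∈ pr w := h ▸ by simp [pr]
  simpa [pr] using this

/-- the image of a set of vectors -/
def move (g : Cfsg.isometryGroup F3 q7) (S : Finset (Ix → F3)) : Finset (Ix → F3) :=
  S.image fun v => ((g : GL Ix F3) : Matrix Ix Ix F3) *ᵥ v

theorem move_one (S : Finset (Ix → F3)) : move 1 S = S := by
  simp [move]

theorem move_mul (g h : Cfsg.isometryGroup F3 q7) (S : Finset (Ix → F3)) :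
    move (g * h) S = move g (move h S) := by
  rw [move, move, move, Finset.image_image]
  refine Finset.image_congr fun v _ => ?_
  simp [Function.comp, Matrix.mulVec_mulVec]

theorem move_pr (g : Cfsg.isometryGroup F3 q7) (v : Ix → F3) :
    move g (pr v) = pr (((g : GL Ix F3) : Matrix Ix Ix F3) *ᵥ v) := by
  simp [move, pr, Matrix.mulVec_neg]

/-- The action on the points. -/
theorem exists_action : ∃ ρ : Cfsg.Omega F3 q7 →* Equiv.Perm (Fin 378),
    ∀ g ∈ dataT.gens 0, ∀ i : Fin 378, ((ρ (Xl g) i : Fin 378) : ℕ) = dataT.img g i := by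
  classical
  have hinj : Function.Injective fun i : Fin 378 => pr (pt i) := fun i j e =>
    pt_distinct i j (pr_inj e)
  obtain ⟨φ, hφ⟩ := CfsgLib.Schur.exists_familyHom (fun (g : Cfsg.Omega F3 q7) S => move g S)
    (fun i : Fin 378 => pr (pt i)) hinj (fun i => move_one _) (fun g h i => move_mul _ _ _)
    (S := Set.univ) (Subgroup.closure_univ) (fun g _ i => by
      show ∃ j : Fin 378, move g (pr (pt i)) = pr (pt j)
      rw [move_pr]
      obtain ⟨j, hj⟩ := pt_complete (((((g : Cfsg.isometryGroup F3 q7) : GL Ix F3)) : Matrix Ix Ix F3) *ᵥ pt i)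
        (((g : Cfsg.isometryGroup F3 q7).2 (pt i) (pt i)).trans (pt_q i))
      exact ⟨j, hj.elim (fun h => by rw [h]) fun h => by rw [h, pr_neg]⟩)
  have key : ∀ j : Fin 2, ∀ i : Fin 378, ((φ (Xl j) i : Fin 378) : ℕ) = dataT.img j i := by
    intro j i
    obtain ⟨h, hv⟩ := genChk j i
    have e : φ (Xl j) i = ⟨_, h⟩ := hinj (by
      refine (hφ (Xl j) i).trans ?_
      show move _ (pr (pt i)) = pr (pt _)
      rw [move_pr, coe_Xl, genMat_eq]
      rcases hv with hv | hv <;> rw [hv]
      exact pr_neg _)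
    rw [e]
  refine ⟨φ, fun g hg i => ?_⟩
  rcases gens0 g hg with rfl | rfl
  · exact key 0 i
  · exact key 1 i

theorem exists_quad : ∃ Q : QuadraticForm F3 (Ix → F3), ⇑Q = q7 ∧ Nondeg Q :=
  exists_quadForm_odd (by decide) 3

theorem card_omega_seven : Nat.card (Cfsg.Omega F3 q7) = 4585351680 := by
  obtain ⟨Q, hQ, hB⟩ := exists_quad
  have h := card_orth_odd (by decide : (2 : F3) ≠ 0) 3 hQ hB
  have e : Nat.card (Grp Q) = Nat.card (Cfsg.isometryGroup F3 q7) := by
    show Nat.card (Cfsg.isometryGroup F3 ⇑Q) = _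
    rw [hQ]
  rw [e, Nat.card_zmod] at h
  have hi := index_omega_odd hB (by decide : (2 : F3) ≠ 0) (by simp)
  rw [hQ] at hi
  have h2 := (Cfsg.Omega F3 q7).index_mul_card
  rw [hi, h] at h2
  simp [Finset.prod_range_succ] at h2
  omega

theorem center_omega_seven : Subgroup.center (Cfsg.Omega F3 q7) = ⊥ := by
  obtain ⟨Q, hQ, hB⟩ := exists_quad
  have key : ∀ f : (Ix → F3) → F3, ⇑Q = f → Subgroup.center (Cfsg.Omega F3 f) = ⊥ := by
    rintro f rfl
    refine Subgroup.card_eq_one.mp ((card_center_omega hB (by simp)).1 fun g hg hm => ?_)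
    exact absurd ⟨g, hg, hm⟩ (no_neg_of_odd hB (by decide) ⟨3, by simp⟩)
  exact key q7 hQ

end CfsgLib.OmegaSevenMult
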