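import Cfsg.Agent.Lib.Schur.CoverLocal

/-!
# Central extensions split over a vertex stabiliser, modulo the defects of the quadrangles

If two lifted paths of length two with the same ends differ by an element of a central subgroup,
then the kernel lies in that subgroup.
-/

set_option autoImplicit false
set_option linter.unusedSectionVars false

namespace CfsgLib.OmegaSevenMult

open CfsgLib.Schur

variable {G Γ : Type*} [Group G] [Group Γ] {X : Type*} [MulAction G X]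
variable {σ : Γ →* G} {adj : X → X → Prop} {v : X} {K : Subgroup Γ} {n : Γ}

/-- The kernel lies in a subgroup containing the defects of the quadrangles. -/
theorem ker_le_of_defects (H : CoverGraph.Hyp σ adj v K n) (hc : σ.ker ≤ Subgroup.center Γ)
    (hΓ : commutator Γ = ⊤) (h3 : CoverGraph.Three adj v) (h2 : ∀ x, ∃ z, adj v z ∧ adj z x)
    (hgen : Subgroup.closure {g : G | ∃ x : X, g • x = x} = ⊤) (N : Subgroup Γ) (hN : N ≤ σ.ker)
    (hq : ∀ γ ζ ζ', CoverGraph.Edge K n 1 ζ → CoverGraph.Edge K n ζ γ → CoverGraph.Edge K n 1 ζ' →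
      adj (σ ζ' • v) (σ γ • v) → ¬ adj v (σ γ • v) → ∃ h ∈ N, CoverGraph.Edge K n ζ' (γ * h)) :
    σ.ker ≤ N := by
  haveI : N.Normal := ⟨fun z hz g => by
    rw [Subgroup.mem_center_iff.1 (hc (hN hz)) g, mul_inv_cancel_right]; exact hz⟩
  set p := QuotientGroup.mk' N
  have hps : Function.Surjective p := QuotientGroup.mk'_surjective N
  let σb : Γ ⧸ N →* G := QuotientGroup.lift N σ hN
  have hσb : ∀ γ, σb (p γ) = σ γ := fun γ => rfl
  have hcb : σb.ker ≤ Subgroup.center (Γ ⧸ N) := fun x hx => by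
    obtain ⟨γ, rfl⟩ := hps x
    rw [MonoidHom.mem_ker, hσb] at hx
    rw [Subgroup.mem_center_iff]
    intro y
    obtain ⟨δ, rfl⟩ := hps y
    rw [← map_mul, ← map_mul, Subgroup.mem_center_iff.1 (hc hx) δ]
  have hΓb : commutator (Γ ⧸ N) = ⊤ := by
    rw [commutator_def, ← Subgroup.map_top_of_surjective _ hps, ← Subgroup.map_commutator,
      ← commutator_def, hΓ]
  have hmem : ∀ {k}, k ∈ K → p k ∈ K.map p := fun hk => Subgroup.mem_map_of_mem p hk
  have down : ∀ {γ δ : Γ}, CoverGraph.Edge K n γ δ → CoverGraph.Edge (K.map p) (p n) (p γ) (p δ) := by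
    rintro γ δ ⟨k, hk, k', hk', e⟩
    exact ⟨p k, hmem hk, p k', hmem hk', by rw [← map_inv, ← map_mul, e, map_mul, map_mul]⟩
  have up : ∀ {γ : Γ} {δb : Γ ⧸ N}, CoverGraph.Edge (K.map p) (p n) (p γ) δb →
      ∃ δ, p δ = δb ∧ CoverGraph.Edge K n γ δ := by
    rintro γ δb ⟨_, ⟨k, hk, rfl⟩, _, ⟨k', hk', rfl⟩, e⟩
    refine ⟨γ * (k * n * k'), ?_, k, hk, k', hk', by group⟩
    rw [map_mul, map_mul, map_mul, ← e, mul_inv_cancel_left]
  have Hb : CoverGraph.Hyp σb adj v (K.map p) (p n) := by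
    refine ⟨fun g => ?_, H.adj_smul, H.symm, ?_, fun s hs => ?_, ?_, H.edge, fun u hu => ?_, ?_, ?_, ?_⟩
    · obtain ⟨γ, rfl⟩ := H.surj g
      exact ⟨p γ, rfl⟩
    · rintro _ ⟨k, hk, rfl⟩
      exact H.fix k hk
    · obtain ⟨k, hk, rfl⟩ := H.onto s hs
      exact ⟨p k, hmem hk, rfl⟩
    · rintro _ ⟨k, hk, rfl⟩ h
      rw [H.inj k hk h, map_one]
    · obtain ⟨k, hk, hku⟩ := H.nbr u hu
      exact ⟨p k, hmem hk, hku⟩
    · rintro _ ⟨k, hk, rfl⟩ h
      rw [← map_inv, ← map_mul, ← map_mul]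
      exact hmem (H.well k hk h)
    · obtain ⟨k, hk, k', hk', e⟩ := H.rev
      exact ⟨p k, hmem hk, p k', hmem hk', by rw [← map_inv, e, map_mul, map_mul]⟩
    · rintro _ ⟨k₁, hk₁, rfl⟩ _ ⟨k₂, hk₂, rfl⟩ h
      rw [← map_mul, ← map_mul, ← map_mul, hσb] at h
      obtain ⟨k₃, hk₃, k₄, hk₄, e⟩ := H.tri k₁ hk₁ k₂ hk₂ h
      exact ⟨p k₃, hmem hk₃, p k₄, hmem hk₄, by rw [← map_mul, ← map_mul, ← map_mul, e, map_mul, map_mul]⟩
  have hqb : CoverGraph.Quad σb adj v (K.map p) (p n) := by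
    intro γb ζb ζb' h1 h2' h1' ha hna
    rw [← map_one p] at h1 h1'
    obtain ⟨ζ, rfl, e1⟩ := up h1
    obtain ⟨ζ', rfl, e1'⟩ := up h1'
    obtain ⟨γ, rfl, e2⟩ := up h2'
    obtain ⟨h, hh, e⟩ := hq γ ζ ζ' e1 e2 e1' ha hna
    have hh1 : p h = 1 := (QuotientGroup.eq_one_iff h).2 hh
    have := down e
    rwa [map_mul, hh1, mul_one] at this
  have hinj := CoverGraph.injective Hb hqb h3 h2 hcb hΓb hgen
  intro γ hγ
  refine (QuotientGroup.eq_one_iff γ).1 (hinj (?_ : σb (p γ) = σb 1))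
  rw [hσb, map_one]
  exact hγ

end CfsgLib.OmegaSevenMult
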