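import Cfsg.Agent.Lib.Schur.OmegaThree
import Cfsg.Agent.Lib.OmegaSevenMult.Modulo

/-!
# Differences of lifted paths of length two
-/

set_option autoImplicit false
set_option linter.unusedSectionVars false

namespace CfsgLib.OmegaSevenMult

open CfsgLib.Schur CfsgLib.Schur.OmegaThree

variable {G Γ : Type*} [Group G] [Group Γ] {X : Type*} [MulAction G X]
variable {σ : Γ →* G} {adj : X → X → Prop} {v : X} {K : Subgroup Γ} {n : Γ}

/-- A path to `x` through `a` becomes one through `b` after multiplication by `k`. -/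
def Shift (σ : Γ →* G) (v : X) (K : Subgroup Γ) (n : Γ) (x : X) (k : Γ) (a b : X) : Prop :=
  σ k = 1 ∧ ∀ γ, σ γ • v = x → Ends σ v K n a γ → Ends σ v K n b (γ * k)

variable (H : CoverGraph.Hyp σ adj v K n) (hc : σ.ker ≤ Subgroup.center Γ)
include H hc

theorem comm_of_ker {k : Γ} (hk : σ k = 1) (g : Γ) : g * k = k * g :=
  Subgroup.mem_center_iff.1 (hc hk) g

theorem shift_of_ends {γ k : Γ} {x a b : X} (hk : σ k = 1) (hx : σ γ • v = x)
    (ha : Ends σ v K n a γ) (hb : Ends σ v K n b (γ * k)) : Shift σ v K n x k a b := by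
  refine ⟨hk, fun γ' hx' ha' => ?_⟩
  have hu := ends_unique H ha ha' (hx.trans hx'.symm)
  have h := ends_congr H hb hu
  rwa [mul_assoc, ← comm_of_ker H hc hk, ← mul_assoc, mul_inv_cancel_left] at h

theorem shift_exists {x a b : X} (ha : adj v a) (hax : adj a x) (hb : adj v b) (hbx : adj b x) :
    ∃ k, Shift σ v K n x k a b := by
  obtain ⟨γ, hγ, he⟩ := ends_exists H ha hax
  obtain ⟨γ', hγ', he'⟩ := ends_exists H hb hbx
  obtain ⟨k₀, hk₀, e⟩ := H.onto (σ (γ⁻¹ * γ')) (by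
    rw [map_mul, map_inv, mul_smul, hγ', inv_smul_eq_iff, hγ])
  refine ⟨γ⁻¹ * γ' * k₀⁻¹, shift_of_ends H hc ?_ hγ he ?_⟩
  · rw [map_mul, map_inv σ k₀, e, mul_inv_cancel]
  · rw [mul_assoc γ⁻¹, mul_inv_cancel_left]
    exact ends_congr H he' (inv_mem hk₀)

theorem shift_trans {x a b c : X} {k k' : Γ} (h : Shift σ v K n x k a b)
    (h' : Shift σ v K n x k' b c) : Shift σ v K n x (k * k') a c := by
  refine ⟨by rw [map_mul, h.1, h'.1, mul_one], fun γ hx ha => ?_⟩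
  have := h'.2 (γ * k) (by rw [map_mul, h.1, mul_one, hx]) (h.2 γ hx ha)
  rwa [mul_assoc] at this

theorem shift_path {x a b : X} (hb : adj v b)
    (hp : Relation.ReflTransGen (fun p q => adj p q ∧ adj v q ∧ adj q x) a b) :
    Shift σ v K n x 1 a b :=
  ⟨map_one σ, fun γ hx ha => by
    rw [mul_one]
    exact ends_path H ha hb (by rw [hx]; exact hp)⟩

theorem shift_symm {x a b : X} {k : Γ} (ha : adj v a) (hax : adj a x)
    (h : Shift σ v K n x k a b) : Shift σ v K n x k⁻¹ b a := by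
  obtain ⟨γ, hγ, he⟩ := ends_exists H ha hax
  refine shift_of_ends H hc (by rw [map_inv, h.1, inv_one])
    (γ := γ * k) (by rw [map_mul, h.1, mul_one, hγ]) (h.2 γ hγ he) ?_
  rwa [mul_inv_cancel_right]

theorem shift_unique {x a b : X} {k k' : Γ} (ha : adj v a) (hax : adj a x)
    (h : Shift σ v K n x k a b) (h' : Shift σ v K n x k' a b) : k = k' := by
  obtain ⟨γ, hγ, he⟩ := ends_exists H ha hax
  have hu := ends_unique H (h.2 γ hγ he) (h'.2 γ hγ he) (by
    rw [map_mul, map_mul, h.1, h'.1])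
  rw [mul_inv_rev, mul_assoc, inv_mul_cancel_left] at hu
  exact inv_mul_eq_one.1 (H.inj _ hu (by rw [map_mul, map_inv, h.1, h'.1, inv_one, mul_one]))

/-- Elements fixing the vertex carry differences along. -/
theorem shift_smul {x a b : X} {k : Γ} {g : G} (hg : g • v = v) (h : Shift σ v K n x k a b) :
    Shift σ v K n (g • x) k (g • a) (g • b) := by
  obtain ⟨k₀, hk₀, rfl⟩ := H.onto g hg
  have hmap : ∀ j ∈ K, ∀ {z : X} {γ : Γ}, Ends σ v K n z γ →
      σ (MulAut.conj j γ) • v = σ j • (σ γ • v) ∧ Ends σ v K n (σ j • z) (MulAut.conj j γ) :=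
    fun j hj z γ hE => ends_map H (MulAut.conj j).toMonoidHom (fun y => σ j • y) (H.fix j hj)
      (fun q hq => mul_mem (mul_mem hj hq) (inv_mem hj)) ⟨j, hj, j⁻¹, inv_mem hj, rfl⟩
      (fun γ y => by
        show σ (j * γ * j⁻¹) • σ j • y = σ j • σ γ • y
        rw [map_mul, map_mul, map_inv, mul_smul, mul_smul, inv_smul_smul]) hE
  refine ⟨h.1, fun γ hx ha => ?_⟩
  obtain ⟨e1, h1⟩ := hmap k₀⁻¹ (inv_mem hk₀) ha
  rw [map_inv σ, inv_smul_smul] at h1
  rw [hx, map_inv σ, inv_smul_smul] at e1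
  obtain ⟨-, h2⟩ := hmap k₀ hk₀ (h.2 _ e1 h1)
  rwa [map_mul (MulAut.conj k₀), map_inv MulAut.conj, MulAut.apply_inv_self, MulAut.conj_apply k₀ k,
    comm_of_ker H hc h.1 k₀, mul_inv_cancel_right] at h2

/-- Two squares with a common path compose. -/
theorem shift_compose {x y z z' : X} {h h' : Γ} {γy : Γ} (hy : σ γy • v = y) (hvz : adj v z)
    (hzy : adj z y) (hzx : adj z x) (hA : Shift σ v K n y h z z')
    (hB : Shift σ v K n ((σ γy)⁻¹ • x) h' ((σ γy)⁻¹ • z) ((σ γy)⁻¹ • z')) :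
    Shift σ v K n x (h * h') z z' := by
  obtain ⟨γ, hγ, η, hη, e1, e2⟩ := ends_exists H hvz hzy
  obtain ⟨k₀, hk₀, ek⟩ := H.onto (σ (γ⁻¹ * γy)) (by
    rw [map_mul, map_inv, mul_smul, hy, inv_smul_eq_iff, hγ])
  -- a lift of `y` through `z` with the same image as `γy`
  set δ := γ * k₀ with hδ
  have hδσ : σ δ = σ γy := by rw [hδ, map_mul, ek, map_mul, map_inv, mul_inv_cancel_left]
  have e2' : CoverGraph.Edge K n η δ := e2.congr_right (by rwa [hδ, inv_mul_cancel_left])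
  obtain ⟨γx, hγx, e3⟩ := CoverGraph.exists_edge H (γ := η) (u := x) (by rwa [hη])
  have hz1 : Ends σ v K n ((σ γy)⁻¹ • z) (δ⁻¹ * γx) := by
    refine ⟨δ⁻¹ * η, by rw [map_mul, map_inv, mul_smul, hη, hδσ], ?_, e3.left _⟩
    have := (CoverGraph.Edge.symm' H e2').left δ⁻¹
    rwa [inv_mul_cancel] at this
  obtain ⟨η₁, hη₁, f1, f2⟩ := hB.2 _ (by rw [map_mul, map_inv, mul_smul, hγx, hδσ]) hz1
  obtain ⟨η', hη', g1, g2⟩ := hA.2 δ (by rw [hδσ, hy]) ⟨η, hη, e1, e2'⟩
  refine shift_of_ends H hc (by rw [map_mul, hA.1, hB.1, mul_one]) hγx ⟨η, hη, e1, e3⟩ ?_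
  set η₂ := δ * h * η₁
  have f1' := f1.left (δ * h)
  rw [mul_one] at f1'
  have f2' := f2.left (δ * h)
  rw [show δ * h * (δ⁻¹ * γx * h') = γx * (h * h') by
    rw [mul_assoc δ h, ← mul_assoc h, ← mul_assoc h, ← comm_of_ker H hc hA.1 δ⁻¹,
      mul_assoc δ⁻¹ h, ← comm_of_ker H hc hA.1 γx]
    group] at f2'
  have hη₂ : σ η₂ • v = z' := by
    rw [map_mul, map_mul, hA.1, mul_one, mul_smul, hη₁, hδσ, smul_inv_smul]
  have hu := CoverGraph.edge_unique H (CoverGraph.Edge.symm' H g2) f1' (hη'.trans hη₂.symm)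
  exact ⟨η', hη', g1, CoverGraph.Edge.symm' H ((CoverGraph.Edge.symm' H f2').congr_right (by
    simpa using inv_mem hu))⟩

end CfsgLib.OmegaSevenMult
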