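import Cfsg.Agent.Lib.OmegaSevenMult.Vectors
import Cfsg.Agent.Lib.OmegaSevenMult.Shift

/-!
# The quadrangles of the graph of vectors of norm one

In a central extension of `Ω₇(3)` split over a vertex stabiliser the differences of lifted paths of
length two are powers of one element of exponent three.
-/

set_option autoImplicit false
set_option linter.unusedSectionVars false

namespace CfsgLib.OmegaSevenMult

open CfsgLib.Orth CfsgLib.Schur CfsgLib.Schur.OmegaGraph CfsgLib.Schur.OmegaOdd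

theorem three_zero : (3 : F3) = 0 := by decide

theorem two_ne : (2 : F3) ≠ 0 := by decide

variable {Q : QuadraticForm F3 (Ix → F3)}

theorem polar_eq (hQ : ⇑Q = q7) (x y : Ix → F3) : QuadraticMap.polar (⇑Q) x y = b7 x y := by
  rw [hQ]; rfl

/-- The base vertex. -/
def vtxE (hQ : ⇑Q = q7) : Vtx Q (1 : F3) := ⟨vE, by rw [hQ]; exact base_vals.1⟩

theorem finrank_ix : Module.finrank F3 (Ix → F3) = 7 := by simp

variable (hQ : ⇑Q = q7) (hB : Nondeg Q)
include hQ hB

/-- An element of order three fixing the two vectors. -/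
theorem exists_rotation : ∃ s : Cfsg.Omega F3 ⇑Q, ∀ w, ap (s : Grp Q) w = rotM.mulVec w := by
  have hmem : (⟨rotM, rotM * rotM, rotM_cube.1, rotM_cube.2⟩ : GL Ix F3) ∈
      Cfsg.isometryGroup F3 ⇑Q := by
    intro u _
    rw [hQ]
    exact rotM_isometry u
  let g : Grp Q := ⟨_, hmem⟩
  refine ⟨⟨g * g * (g * g), mul_mem (sq_mem_omega hB (by rw [finrank_ix]; omega) g)
    (sq_mem_omega hB (by rw [finrank_ix]; omega) g)⟩, fun w => ?_⟩
  show ap (g * g * (g * g)) w = _
  have hg : ∀ w, ap g w = rotM.mulVec w := fun w => rfl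
  simp only [ap_mul, hg, Matrix.mulVec_mulVec]
  rw [show rotM * (rotM * (rotM * rotM)) = rotM by rw [rotM_cube.1, mul_one]]

/-- The stabiliser of the vertex is transitive on the singular vectors orthogonal to it. -/
theorem exists_move {r : Ix → F3} (hr : r ≠ 0) (hr0 : Q r = 0)
    (hvr : QuadraticMap.polar (⇑Q) vE r = 0) :
    ∃ g : Cfsg.Omega F3 ⇑Q, ap (g : Grp Q) vE = vE ∧ ap (g : Grp Q) vR = r := by
  have hbE : QuadraticMap.polar (⇑Q) vE vE = 2 := by
    rw [b_self, hQ, base_vals.1, mul_one]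
  have hli : ∀ r : Ix → F3, r ≠ 0 → QuadraticMap.polar (⇑Q) vE r = 0 →
      LinearIndependent F3 ![vE, r] := by
    intro r hr hvr
    rw [LinearIndependent.pair_iff]
    intro a b e
    have h := congrArg (QuadraticMap.polar (⇑Q) vE) e
    rw [b_add_right, b_smul_right, b_smul_right, hbE, hvr, mul_zero, add_zero, b_zero_right] at h
    have ha : a = 0 := (mul_eq_zero.1 h).resolve_right two_ne
    rw [ha, zero_smul, zero_add] at e
    exact ⟨ha, (smul_eq_zero.1 e).resolve_right hr⟩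
  have hvR : QuadraticMap.polar (⇑Q) vE vR = 0 := by rw [polar_eq hQ]; exact base_vals.2.2.2.1
  have hR0 : Q vR = 0 := by rw [hQ]; exact base_vals.2.1
  have hliR := hli vR base_vals.2.2.2.2.2.2 hvR
  obtain ⟨g, hg⟩ := exists_omega_config hB (by rw [finrank_ix]; omega) (p := ![vE, vR]) (p' := ![vE, r])
    hliR (hli r hr hvr)
    (fun i => by fin_cases i <;> simp [hr0, hR0])
    (fun i j => by fin_cases i <;> fin_cases j <;>
      simp [b_self, hr0, hR0, hvr, hvR, b_comm vR vE, b_comm r vE])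
    (univ_of_dim (by
      have hP : Module.finrank F3 (Submodule.span F3 (Set.range ![vE, vR])) = 2 := by
        rw [finrank_span_eq_card hliR, Fintype.card_fin]
      have h1 := finrank_orth hB (Submodule.span F3 (Set.range ![vE, vR]))
      have h3 := Submodule.finrank_mono (inf_le_right :
        orth Q (Submodule.span F3 (Set.range ![vE, vR])) ⊓
          orth Q (orth Q (Submodule.span F3 (Set.range ![vE, vR]))) ≤ _)
      rw [orth_orth hB, hP] at h3
      rw [hP, finrank_ix] at h1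
      rw [orth_orth hB]
      omega))
  exact ⟨g, hg 0, hg 1⟩

variable {Γ : Type*} [Group Γ] {σ : Γ →* Cfsg.Omega F3 ⇑Q} {K : Subgroup Γ} {n : Γ}
variable (H : CoverGraph.Hyp σ (Adj (0 : F3)) (vtxE hQ) K n) (hc : σ.ker ≤ Subgroup.center Γ)
include H hc

/-- With `x` in the span of the vertex and two midpoints the paths are joined. -/
theorem shift_flat {x z z' : Vtx Q (1 : F3)} (hvz : Adj 0 (vtxE hQ) z) (hvz' : Adj 0 (vtxE hQ) z')
    (hz'x : Adj 0 z' x)
    (hx : x.vec ∈ Submodule.span F3 ({vE, z.vec, z'.vec} : Set (Ix → F3))) :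
    Shift σ (vtxE hQ) K n x 1 z z' := by
  classical
  refine shift_path H hc hvz' (path_mid hvz' hz'x ?_)
  obtain ⟨w, hw⟩ := exists_perp_vtx (hD two_ne one_ne_zero) hB (by rw [finrank_ix]) one_ne_zero hvz
    {vE, z.vec, z'.vec} (by simp [vtxE]) (by simp) Finset.card_le_three
  refine ⟨w.vec, mem_orth_span.2 fun q hq => ?_, w.norm⟩
  have key : ∀ q ∈ Submodule.span F3 ({vE, z.vec, z'.vec} : Set (Ix → F3)),
      QuadraticMap.polar (⇑Q) q w.vec = 0 := fun q hq => by
    refine mem_orth.1 (mem_orth_span.2 (fun s hs => ?_)) q hq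
    rw [b_comm]
    exact hw s (by simpa using hs)
  simp only [Set.mem_insert_iff, Set.mem_singleton_iff] at hq
  rcases hq with rfl | rfl | rfl | rfl
  · exact key _ (Submodule.subset_span (Set.mem_insert _ _))
  · exact key _ hx
  · exact key _ (Submodule.subset_span (by simp))
  · exact key _ (Submodule.subset_span (by simp))

/-- The differences are powers of one element of exponent three. -/
theorem exists_defect : ∃ δ, σ δ = 1 ∧ δ ^ 3 = 1 ∧ ∀ x z z' : Vtx Q (1 : F3),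
    Adj 0 (vtxE hQ) z → Adj 0 z x → Adj 0 (vtxE hQ) z' → Adj 0 z' x → ¬ Adj 0 (vtxE hQ) x →
      ∃ h ∈ Subgroup.zpowers δ, Shift σ (vtxE hQ) K n x h z z' := by
  classical
  set v := vtxE hQ with hv
  have hvv : QuadraticMap.polar (⇑Q) vE vE = 2 := by rw [b_self, hQ, base_vals.1, mul_one]
  have hsymm : ∀ {a b : Vtx Q (1 : F3)}, Adj 0 a b → Adj 0 b a := fun h => H.symm _ _ h
  -- the base configuration
  let x₀ : Vtx Q (1 : F3) := ⟨vE + vR, by
    rw [q_add, hQ, base_vals.1, base_vals.2.1, ← hQ, polar_eq hQ, base_vals.2.2.2.1]; decide⟩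
  have hcom : ∀ z : Vtx Q (1 : F3), (Adj 0 v z ∧ Adj 0 z x₀) ↔ (b7 vE z.vec = 0 ∧ b7 vR z.vec = 0) := by
    intro z
    show (QuadraticMap.polar (⇑Q) vE z.vec = 0 ∧ QuadraticMap.polar (⇑Q) z.vec (vE + vR) = 0) ↔ _
    rw [b_add_right, b_comm z.vec vE, b_comm z.vec vR, polar_eq hQ, polar_eq hQ]
    constructor
    · rintro ⟨h1, h2⟩; exact ⟨h1, by rwa [h1, zero_add] at h2⟩
    · rintro ⟨h1, h2⟩; exact ⟨h1, by rw [h1, h2, add_zero]⟩
  obtain ⟨s, hs⟩ := exists_rotation hQ hB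
  have hsv : s • v = v := Vtx.ext (by rw [smul_vec, hs]; exact rotM_fix.1)
  have hsx : s • x₀ = x₀ := Vtx.ext (by
    rw [smul_vec, hs]
    show rotM.mulVec (vE + vR) = vE + vR
    rw [Matrix.mulVec_add, rotM_fix.1, rotM_fix.2])
  let a : Vtx Q (1 : F3) := ⟨vA, by rw [hQ]; exact base_vals.2.2.1⟩
  have ha := (hcom a).2 ⟨base_vals.2.2.2.2.1, base_vals.2.2.2.2.2.1⟩
  have hsa : ∀ z, Adj 0 v z ∧ Adj 0 z x₀ → Adj 0 v (s • z) ∧ Adj 0 (s • z) x₀ := fun z hz =>
    ⟨by have := H.adj_smul s _ _ hz.1; rwa [hsv] at this,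
      by have := H.adj_smul s _ _ hz.2; rwa [hsx] at this⟩
  obtain ⟨δ, hδ⟩ := shift_exists H hc ha.1 ha.2 (hsa a ha).1 (hsa a ha).2
  have hstep : ∀ {p q : Vtx Q (1 : F3)}, Shift σ v K n x₀ δ p q → Shift σ v K n x₀ δ (s • p) (s • q) :=
    fun h => by have := shift_smul H hc hsv h; rwa [hsx] at this
  have hδ2 := shift_trans H hc hδ (hstep hδ)
  have hδ3 := shift_trans H hc hδ2 (hstep (hstep hδ))
  have hcube : s • s • s • a = a := Vtx.ext (by
    simp only [smul_vec, hs, Matrix.mulVec_mulVec]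
    rw [rotM_cube.1, Matrix.one_mulVec])
  rw [hcube] at hδ3
  have hpow : δ ^ 3 = 1 := by
    rw [pow_succ, pow_two]
    exact shift_unique H hc ha.1 ha.2 hδ3 (shift_path H hc ha.1 .refl)
  set N := Subgroup.zpowers δ
  have hδN : δ ∈ N := Subgroup.mem_zpowers δ
  -- every midpoint of the base configuration
  have hbase : ∀ z, Adj 0 v z ∧ Adj 0 z x₀ → ∃ h ∈ N, Shift σ v K n x₀ h z a := by
    intro z hz
    obtain ⟨h1, h2⟩ := (hcom z).1 hz
    obtain ⟨i, hi⟩ := mid_reach z.vec (hQ ▸ z.norm) h1 h2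
    have hp : ∀ q : Vtx Q (1 : F3), q.vec = mid i → Adj 0 v q ∧ Adj 0 q x₀ →
        Shift σ v K n x₀ 1 z q := by
      intro q hq hqc
      refine shift_path H hc hqc.1 ?_
      rcases hi with hi | ⟨k, hk1, hk2, hk3, hk4, hk5⟩
      · exact .single ⟨show QuadraticMap.polar (⇑Q) z.vec q.vec = 0 by rw [polar_eq hQ, hq, hi],
          hqc.1, hqc.2⟩
      · let w : Vtx Q (1 : F3) := ⟨aux k, by rw [hQ]; exact hk1⟩
        have hw := (hcom w).2 ⟨hk2, hk3⟩
        exact .tail (.single (b := w) ⟨show QuadraticMap.polar (⇑Q) z.vec (aux k) = 0 by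
          rw [polar_eq hQ, hk4], hw.1, hw.2⟩)
          ⟨show QuadraticMap.polar (⇑Q) (aux k) q.vec = 0 by rw [polar_eq hQ, hq, hk5], hqc.1, hqc.2⟩
    fin_cases i
    · exact ⟨1, one_mem N, hp a rfl ha⟩
    · exact ⟨1 * δ⁻¹, mul_mem (one_mem N) (inv_mem hδN),
        shift_trans H hc (hp (s • a) (by rw [smul_vec, hs]; rfl) (hsa a ha))
          (shift_symm H hc ha.1 ha.2 hδ)⟩
    · exact ⟨1 * (δ * δ)⁻¹, mul_mem (one_mem N) (inv_mem (mul_mem hδN hδN)),
        shift_trans H hc (hp (s • s • a) (by rw [smul_vec, smul_vec, hs, hs]; rfl) (hsa _ (hsa a ha)))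
          (shift_symm H hc ha.1 ha.2 hδ2)⟩
  -- the vertices with inner product two
  have hplus : ∀ x z z' : Vtx Q (1 : F3), Adj 0 v z → Adj 0 z x → Adj 0 v z' → Adj 0 z' x →
      Adj 2 v x → ∃ h ∈ N, Shift σ v K n x h z z' := by
    intro x z z' hvz hzx hvz' hz'x hvx
    by_cases hflat : x.vec ∈ Submodule.span F3 ({vE, z.vec, z'.vec} : Set (Ix → F3))
    · exact ⟨1, one_mem N, shift_flat hQ hB H hc hvz hvz' hz'x hflat⟩
    have hvx' : QuadraticMap.polar (⇑Q) vE x.vec = 2 := hvx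
    have hr : x.vec - vE ≠ 0 := fun e => hflat (by
      rw [sub_eq_zero.1 e]; exact Submodule.subset_span (Set.mem_insert _ _))
    have hr0 : Q (x.vec - vE) = 0 := by
      rw [q_sub, x.norm, b_comm, hvx', hQ, base_vals.1]; decide
    have hvr : QuadraticMap.polar (⇑Q) vE (x.vec - vE) = 0 := by
      rw [b_sub_right, hvx', hvv, sub_self]
    obtain ⟨g, hgv, hgr⟩ := exists_move hQ hB hr hr0 hvr
    have hgv' : g • v = v := Vtx.ext hgv
    have hgx : g • x₀ = x := Vtx.ext (by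
      show ap (g : Grp Q) (vE + vR) = x.vec
      rw [ap_add, hgv, hgr, add_sub_cancel])
    have hback : ∀ q, Adj 0 v q → Adj 0 q x → Adj 0 v (g⁻¹ • q) ∧ Adj 0 (g⁻¹ • q) x₀ := fun q h1 h2 =>
      ⟨by have := H.adj_smul g⁻¹ _ _ h1; rwa [inv_smul_eq_iff.2 hgv'.symm] at this,
        by have := H.adj_smul g⁻¹ _ _ h2; rwa [inv_smul_eq_iff.2 hgx.symm] at this⟩
    obtain ⟨k, hk, hkz⟩ := hbase _ (hback z hvz hzx)
    obtain ⟨k', hk', hkz'⟩ := hbase _ (hback z' hvz' hz'x)
    have h := shift_smul H hc hgv'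
      (shift_trans H hc hkz (shift_symm H hc (hback z' hvz' hz'x).1 (hback z' hvz' hz'x).2 hkz'))
    rw [hgx, smul_inv_smul, smul_inv_smul] at h
    exact ⟨k * k'⁻¹, mul_mem hk (inv_mem hk'), h⟩
  refine ⟨δ, hδ.1, hpow, fun x z z' hvz hzx hvz' hz'x hnadj => ?_⟩
  by_cases h2 : Adj 2 v x
  · exact hplus x z z' hvz hzx hvz' hz'x h2
  by_cases hflat : x.vec ∈ Submodule.span F3 ({vE, z.vec, z'.vec} : Set (Ix → F3))
  · exact ⟨1, one_mem N, shift_flat hQ hB H hc hvz hvz' hz'x hflat⟩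
  have hvx : QuadraticMap.polar (⇑Q) vE x.vec = 1 :=
    (by decide : ∀ t : F3, t ≠ 0 → t ≠ 2 → t = 1) _ hnadj h2
  set r := x.vec + vE with hr
  have hr0 : Q r = 0 := by rw [hr, q_add, x.norm, b_comm, hvx, hQ, base_vals.1]; decide
  have hrS : r ∉ Submodule.span F3 ({vE, z.vec, z'.vec} : Set (Ix → F3)) := fun h => hflat (by
    have := Submodule.sub_mem _ h (Submodule.subset_span (R := F3) (Set.mem_insert vE _))
    rwa [hr, add_sub_cancel_right] at this)
  obtain ⟨u, hu, hru⟩ := exists_orth_one hB hrS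
  have hrv : QuadraticMap.polar (⇑Q) vE r = 0 := by rw [hr, b_add_right, hvx, hvv]; decide
  have hrz : ∀ q : Vtx Q (1 : F3), Adj 0 v q → Adj 0 q x → QuadraticMap.polar (⇑Q) q.vec r = 0 :=
    fun q h1 h3 => by
      rw [hr, b_add_right, b_comm q.vec vE, show QuadraticMap.polar (⇑Q) vE q.vec = 0 from h1,
        show QuadraticMap.polar (⇑Q) q.vec x.vec = 0 from h3, add_zero]
  set s' := u - Q u • r with hs'
  have hsP : ∀ q ∈ ({vE, z.vec, z'.vec} : Set (Ix → F3)), QuadraticMap.polar (⇑Q) q s' = 0 := by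
    intro q hq
    rw [hs', b_sub_right, b_smul_right, mem_orth.1 hu q (Submodule.subset_span hq)]
    rcases hq with rfl | rfl | rfl
    · rw [hrv, mul_zero, sub_zero]
    · rw [hrz z hvz hzx, mul_zero, sub_zero]
    · rw [hrz z' hvz' hz'x, mul_zero, sub_zero]
  have hsr : QuadraticMap.polar (⇑Q) r s' = 1 := by
    rw [hs', b_sub_right, b_smul_right, b_self_zero hr0, mul_zero, sub_zero, hru]
  have hs0 : Q s' = 0 := by
    rw [hs', q_sub, q_smul, hr0, b_smul_right, b_comm u r, hru]; ring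
  let y : Vtx Q (1 : F3) := ⟨vE + s', by
    rw [q_add, hs0, hsP vE (Set.mem_insert _ _), hQ, base_vals.1, add_zero, add_zero]⟩
  have hvy : Adj 2 v y := by
    show QuadraticMap.polar (⇑Q) vE (vE + s') = 2
    rw [b_add_right, hvv, hsP vE (Set.mem_insert _ _), add_zero]
  have hzy : ∀ q : Vtx Q (1 : F3), Adj 0 v q → q.vec ∈ ({vE, z.vec, z'.vec} : Set (Ix → F3)) →
      Adj 0 q y := fun q h1 hq => by
    show QuadraticMap.polar (⇑Q) q.vec (vE + s') = 0
    rw [b_add_right, b_comm q.vec vE, show QuadraticMap.polar (⇑Q) vE q.vec = 0 from h1, hsP _ hq,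
      add_zero]
  have hzy1 := hzy z hvz (by simp)
  have hzy2 := hzy z' hvz' (by simp)
  have hyx : QuadraticMap.polar (⇑Q) y.vec x.vec = 2 := by
    show QuadraticMap.polar (⇑Q) (vE + s') x.vec = 2
    rw [b_add_left, hvx, show x.vec = r - vE by rw [hr, add_sub_cancel_right], b_sub_right,
      b_comm s' r, hsr, b_comm s' vE, hsP vE (Set.mem_insert _ _)]
    decide
  obtain ⟨k, hk, hA⟩ := hplus y z z' hvz hzy1 hvz' hzy2 hvy
  obtain ⟨γy, hγy, -⟩ := OmegaThree.ends_exists H hvz hzy1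
  set g := σ γy
  have hgv : g⁻¹ • y = v := inv_smul_eq_iff.2 hγy.symm
  obtain ⟨k', hk', hB'⟩ := hplus (g⁻¹ • x) (g⁻¹ • z) (g⁻¹ • z')
    (hgv ▸ H.adj_smul g⁻¹ _ _ (hsymm hzy1)) (H.adj_smul g⁻¹ _ _ hzx)
    (hgv ▸ H.adj_smul g⁻¹ _ _ (hsymm hzy2)) (H.adj_smul g⁻¹ _ _ hz'x) (by
      rw [← hgv]
      show QuadraticMap.polar (⇑Q) (g⁻¹ • y).vec (g⁻¹ • x).vec = 2
      rw [smul_vec, smul_vec, ap_b, hyx])
  exact ⟨k * k', mul_mem hk hk', shift_compose H hc hγy hvz hzy1 hzx hA hB'⟩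

end CfsgLib.OmegaSevenMult
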