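import Cfsg.Agent.Lib.Schur.OmegaStd
import Cfsg.Agent.Lib.OmegaSevenMult.Defects

/-!
# The kernel of a perfect central extension of `Ω₇(3)` has order dividing six

Two from the hyperbolic six-space orthogonal to a vertex, three from the quadrangles.
-/

set_option autoImplicit false
set_option linter.unusedSectionVars false

namespace CfsgLib.OmegaSevenMult

open CfsgLib.Orth CfsgLib.Schur CfsgLib.Schur.OmegaGraph CfsgLib.Schur.OmegaOdd CfsgLib.Schur.CoverLocal

variable {Q : QuadraticForm F3 (Ix → F3)} (hQ : ⇑Q = q7) (hB : Nondeg Q)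

/-- The coordinates orthogonal to the vertex. -/
def emb : (Fin 3 ⊕ Fin 3 → F3) →ₗ[F3] Ix → F3 where
  toFun x := Sum.elim 0 x
  map_add' x y := funext fun s => by rcases s with s | s <;> simp
  map_smul' a x := funext fun s => by rcases s with s | s <;> simp

theorem emb_injective : Function.Injective emb := fun _ _ h => funext fun s => congrFun h (.inr s)

include hQ in
theorem emb_form : ⇑(Q.comp emb) = Cfsg.quadFormPlus 3 F3 := funext fun x => by
  rw [QuadraticMap.comp_apply, hQ]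
  simp [emb, q7, Cfsg.quadFormOdd, Cfsg.quadFormPlus]

theorem b7_vE (y : Ix → F3) : b7 vE y = 2 * y (.inl ()) := by
  revert y
  decide +kernel

include hQ hB in
/-- The kernel meets the lift of the vertex stabiliser in at most two elements. -/
theorem card_inter_le_two {Γ : Type} [Group Γ] [Finite Γ] (σ : Γ →* Cfsg.Omega F3 ⇑Q)
    (hs : Function.Surjective σ) (hc : σ.ker ≤ Subgroup.center Γ) :
    Nat.card ↥(σ.ker ⊓ L σ (MulAction.stabilizer (Cfsg.Omega F3 ⇑Q) (vtxE hQ))) ≤ 2 := by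
  classical
  set S := MulAction.stabilizer (Cfsg.Omega F3 ⇑Q) (vtxE hQ) with hS
  set e := emb
  have heQ : ⇑(Q.comp e) = Cfsg.quadFormPlus 3 F3 := emb_form hQ
  have hB' : Nondeg (Q.comp e) := CfsgLib.Schur.OmegaStd.nondeg_six heQ
  have hU : NondegOn Q (LinearMap.range e) := by
    rintro _ ⟨a, rfl⟩ h
    rw [hB' a fun b => by
      rw [show QuadraticMap.polar (⇑(Q.comp e)) a b = QuadraticMap.polar (⇑Q) (e a) (e b) by
        simp [QuadraticMap.polar]]
      exact h _ ⟨b, rfl⟩, map_zero]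
  have hn : 5 ≤ Module.finrank F3 (Ix → F3) := by rw [finrank_ix]; omega
  obtain ⟨f, hf, -, hrange⟩ := exists_omega_extend hB hn hU emb_injective hB' (by simp)
  have hvU : vE ∈ orth Q (LinearMap.range e) := mem_orth.2 fun w hw => by
    obtain ⟨a, rfl⟩ := hw
    rw [b_comm, polar_eq hQ, b7_vE]
    simp [e, emb]
  have hSr : S = f.range := by
    ext G
    rw [hrange, MulAction.mem_stabilizer_iff, smul_eq_iff]
    refine ⟨fun h w hw => ?_, fun h => h vE hvU⟩
    have hw' : w = w (.inl ()) • vE := by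
      funext i
      rcases i with ⟨⟩ | i
      · simp [vE]
      · have hpair : QuadraticMap.polar (⇑Q) (e (Pi.single (Sum.elim Sum.inr Sum.inl i) 1)) w = 0 :=
          mem_orth.1 hw _ ⟨_, rfl⟩
        have key : ∀ (i : Fin 3 ⊕ Fin 3) (w : Ix → F3),
            b7 (Sum.elim 0 (Pi.single (Sum.elim Sum.inr Sum.inl i) 1)) w = w (.inr i) := by
          decide +kernel
        rw [polar_eq hQ] at hpair
        have hwi : w (.inr i) = 0 := (key i w).symm.trans hpair
        simp [vE, hwi]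
    rw [hw', ap_smul]
    exact congrArg _ h
  have hperf : commutator (Cfsg.Omega F3 ⇑(Q.comp e)) = ⊤ :=
    Subgroup.map_injective (Subgroup.subtype_injective _) (by
      rw [Subgroup.map_subtype_commutator, omega_perfect hB' (by simp), ← MonoidHom.range_eq_map,
        Subgroup.range_subtype])
  have hSS : ⁅S, S⁆ = S := by
    rw [hSr, MonoidHom.range_eq_map, ← Subgroup.map_commutator, ← commutator_def, hperf]
  have hmem : ∀ k : L σ S, σ k.1 ∈ f.range := fun k => hSr ▸ L_sigma k.2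
  let σ' : L σ S →* Cfsg.Omega F3 ⇑(Q.comp e) :=
    (MonoidHom.ofInjective hf).symm.toMonoidHom.comp
      ((σ.comp (L σ S).subtype).codRestrict f.range hmem)
  have hfσ : ∀ k, f (σ' k) = σ k.1 := fun k =>
    congrArg Subtype.val ((MonoidHom.ofInjective hf).apply_symm_apply ⟨σ k.1, hmem k⟩)
  have hker : ∀ k, σ' k = 1 ↔ σ k.1 = 1 := fun k => by rw [← hfσ, map_eq_one_iff f hf]
  have hs' : Function.Surjective σ' := fun g => by
    obtain ⟨k, hk, ek⟩ := Subgroup.mem_map.1 (show f g ∈ (L σ S).map σ by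
      rw [map_L hs, hSS, hSr]; exact ⟨g, rfl⟩)
    exact ⟨⟨k, hk⟩, hf (by rw [hfσ, ← ek])⟩
  have hc' : σ'.ker ≤ Subgroup.center (L σ S) := fun k hk => by
    rw [MonoidHom.mem_ker, hker] at hk
    rw [Subgroup.mem_center_iff]
    exact fun x => Subtype.ext (Subgroup.mem_center_iff.1 (hc hk) x.1)
  have hb : Nat.card σ'.ker ≤ 2 :=
    OmegaSix.ker_six_plus' two_ne heQ σ' hs' hc' (L_perfect hs hc hSS)
  refine le_trans (Nat.card_le_card_of_injective
    (fun z : ↥(σ.ker ⊓ L σ S) => (⟨⟨z.1, z.2.2⟩, (hker _).2 z.2.1⟩ : σ'.ker)) fun a b h => ?_) hb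
  exact Subtype.ext (congrArg (fun x : σ'.ker => x.1.1) h)

include hQ hB in
/-- An extension split over the stabiliser has kernel of order dividing three. -/
theorem card_split_dvd {Γ : Type} [Group Γ] [Finite Γ] (σ : Γ →* Cfsg.Omega F3 ⇑Q)
    (hs : Function.Surjective σ) (hc : σ.ker ≤ Subgroup.center Γ) (hΓ : commutator Γ = ⊤)
    (hinj : ∀ k ∈ L σ (MulAction.stabilizer (Cfsg.Omega F3 ⇑Q) (vtxE hQ)), σ k = 1 → k = 1) :
    Nat.card σ.ker ∣ 3 := by
  have hn : 7 ≤ Module.finrank F3 (Ix → F3) := finrank_ix.ge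
  set v := vtxE hQ
  have hcom := exists_common hB (by omega) (one_ne_zero (α := F3)) v
  have hedge : ∃ u, Adj 0 v u := ⟨(hcom v).choose, (hcom v).choose_spec.1⟩
  have hsymm : ∀ {a b : Vtx Q (1 : F3)}, Adj 0 a b → Adj 0 b a := fun h => by
    unfold Adj at h ⊢; rwa [b_comm]
  have hD' := hD (c := (1 : F3)) two_ne one_ne_zero
  have Hl := loc hD' hB hn one_ne_zero v hedge hs (stab_perfect two_ne hB hn one_ne_zero v)
    (fun u z hz => (edge_perfect hD' hB hn (x := v) (y := z) (hsymm hz.2.1)).ge) hinj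
  obtain ⟨n, Hn, -, -⟩ := CoverLocal.exists_hyp Hl
  obtain ⟨δ, hδσ, hδ3, hδ⟩ := exists_defect hQ hB Hn hc
  have hle : σ.ker ≤ Subgroup.zpowers δ := by
    refine ker_le_of_defects Hn hc hΓ (three two_ne hB hn one_ne_zero v) hcom
      (CoverLocal.closure_stab Hl hcom) _ (by rw [Subgroup.zpowers_le]; exact hδσ) ?_
    intro γ ζ ζ' h1 h2 h1' ha hna
    have hv : σ (1 : Γ) • v = v := by rw [map_one, one_smul]
    have a1 := CoverGraph.Edge.adj' Hn h1
    have a1' := CoverGraph.Edge.adj' Hn h1'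
    rw [hv] at a1 a1'
    obtain ⟨h, hh, hsh⟩ := hδ _ _ _ a1 (CoverGraph.Edge.adj' Hn h2) a1' ha hna
    exact ⟨h, hh, OmegaThree.ends_edge Hn (hsh.2 γ rfl ⟨ζ, rfl, h1, h2⟩) h1'⟩
  refine (Subgroup.card_dvd_of_le hle).trans ?_
  rw [Nat.card_zpowers]
  exact orderOf_dvd_of_pow_eq_one hδ3

include hQ hB in
/-- The kernel of a perfect central extension has order dividing six. -/
theorem card_ker_dvd {Γ : Type} [Group Γ] [Finite Γ] (σ : Γ →* Cfsg.Omega F3 ⇑Q)
    (hs : Function.Surjective σ) (hc : σ.ker ≤ Subgroup.center Γ) (hΓ : commutator Γ = ⊤) :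
    Nat.card σ.ker ∣ 6 := by
  classical
  set S := MulAction.stabilizer (Cfsg.Omega F3 ⇑Q) (vtxE hQ)
  set Z := σ.ker ⊓ L σ S with hZ
  have hZ2 : Nat.card Z ∣ 2 := by
    have h1 : Nat.card Z ≤ 2 := card_inter_le_two hQ hB σ hs hc
    have h2 : 0 < Nat.card Z := Nat.card_pos
    interval_cases h : Nat.card Z <;> norm_num
  haveI : Z.Normal := ⟨fun z hz g => by
    rw [Subgroup.mem_center_iff.1 (hc hz.1) g, mul_inv_cancel_right]; exact hz⟩
  set p := QuotientGroup.mk' Z
  have hps : Function.Surjective p := QuotientGroup.mk'_surjective Z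
  let σb : Γ ⧸ Z →* Cfsg.Omega F3 ⇑Q := QuotientGroup.lift Z σ inf_le_left
  have hσb : ∀ γ, σb (p γ) = σ γ := fun γ => rfl
  have hsb : Function.Surjective σb := fun g => by
    obtain ⟨γ, rfl⟩ := hs g
    exact ⟨_, hσb γ⟩
  have hcb : σb.ker ≤ Subgroup.center (Γ ⧸ Z) := fun x hx => by
    obtain ⟨γ, rfl⟩ := hps x
    rw [MonoidHom.mem_ker, hσb] at hx
    rw [Subgroup.mem_center_iff]
    intro y
    obtain ⟨δ, rfl⟩ := hps y
    rw [← map_mul, ← map_mul, Subgroup.mem_center_iff.1 (hc hx) δ]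
  have hΓb : commutator (Γ ⧸ Z) = ⊤ := by
    rw [commutator_def, ← Subgroup.map_top_of_surjective _ hps, ← Subgroup.map_commutator,
      ← commutator_def, hΓ]
  have hinjb : ∀ k ∈ L σb S, σb k = 1 → k = 1 := by
    intro k hk hk1
    have hpre : S.comap σb = (S.comap σ).map p := by
      ext x
      obtain ⟨γ, rfl⟩ := hps x
      refine ⟨fun h => ⟨γ, h, rfl⟩, ?_⟩
      rintro ⟨δ, hδ, e'⟩
      show σb _ ∈ S
      rw [← e', hσb]
      exact hδ
    unfold CoverLocal.L at hk
    rw [hpre, ← Subgroup.map_commutator] at hk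
    obtain ⟨γ, hγ, rfl⟩ := hk
    rw [hσb] at hk1
    exact (QuotientGroup.eq_one_iff γ).2 ⟨hk1, hγ⟩
  have h3 := card_split_dvd hQ hB σb hsb hcb hΓb hinjb
  let f : σ.ker →* σb.ker := (p.comp σ.ker.subtype).codRestrict σb.ker fun x => by
    show σb (p x.1) = 1
    rw [hσb]; exact x.2
  have hf : Function.Surjective f := fun y => by
    obtain ⟨γ, hγ⟩ := hps y.1
    refine ⟨⟨γ, ?_⟩, Subtype.ext hγ⟩
    have := y.2
    rwa [MonoidHom.mem_ker, ← hγ, hσb] at this
  have e2 : Nat.card f.ker ∣ Nat.card Z :=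
    Subgroup.card_dvd_of_injective
      (((σ.ker.subtype.comp f.ker.subtype)).codRestrict Z fun x =>
        (QuotientGroup.eq_one_iff x.1.1).1 (congrArg Subtype.val x.2))
      fun a b h => Subtype.ext (Subtype.ext (congrArg Subtype.val h :))
  rw [← Subgroup.card_mul_index f.ker, Subgroup.index_ker, MonoidHom.range_eq_top.2 hf,
    Subgroup.card_top]
  exact mul_dvd_mul (e2.trans hZ2) h3

end CfsgLib.OmegaSevenMult
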