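import Cfsg.Agent.Lib.OmegaSevenMult.DataT
import Cfsg.Agent.Lib.Leech.Sub.Split

/-! Kernel checks of the lifted chain of the cover: Schreier generators. -/

set_option autoImplicit false
-- the pieces are checked one after another, which keeps the peak memory low
set_option Elab.async false
set_option maxRecDepth 100000

namespace CfsgLib.OmegaSevenMult

open CfsgLib.Schur.MonoCover CfsgLib.Leech

theorem schChkT0_0 : pieceOK 30 (schT0) (dataT.schChk 0) 0 = true := by decide +kernel

theorem schChkT0_1 : pieceOK 30 (schT0) (dataT.schChk 0) 1 = true := by decide +kernel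

theorem schChkT0_2 : pieceOK 30 (schT0) (dataT.schChk 0) 2 = true := by decide +kernel

theorem schChkT0_3 : pieceOK 30 (schT0) (dataT.schChk 0) 3 = true := by decide +kernel

theorem schChkT0_4 : pieceOK 30 (schT0) (dataT.schChk 0) 4 = true := by decide +kernel

theorem schChkT0_5 : pieceOK 30 (schT0) (dataT.schChk 0) 5 = true := by decide +kernel

theorem schChkT0_6 : pieceOK 30 (schT0) (dataT.schChk 0) 6 = true := by decide +kernel

theorem schChkT0_7 : pieceOK 30 (schT0) (dataT.schChk 0) 7 = true := by decide +kernel

theorem schChkT0_8 : pieceOK 30 (schT0) (dataT.schChk 0) 8 = true := by decide +kernel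

theorem schChkT0_9 : pieceOK 30 (schT0) (dataT.schChk 0) 9 = true := by decide +kernel

theorem schChkT0_10 : pieceOK 30 (schT0) (dataT.schChk 0) 10 = true := by decide +kernel

theorem schChkT0_11 : pieceOK 30 (schT0) (dataT.schChk 0) 11 = true := by decide +kernel

theorem schChkT0_12 : pieceOK 30 (schT0) (dataT.schChk 0) 12 = true := by decide +kernel

theorem schChkT0_13 : pieceOK 30 (schT0) (dataT.schChk 0) 13 = true := by decide +kernel

theorem schChkT0_14 : pieceOK 30 (schT0) (dataT.schChk 0) 14 = true := by decide +kernel

theorem schChkT0_15 : pieceOK 30 (schT0) (dataT.schChk 0) 15 = true := by decide +kernel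

theorem schChkT0_16 : pieceOK 30 (schT0) (dataT.schChk 0) 16 = true := by decide +kernel

theorem schChkT0_17 : pieceOK 30 (schT0) (dataT.schChk 0) 17 = true := by decide +kernel

theorem schChkT0_18 : pieceOK 30 (schT0) (dataT.schChk 0) 18 = true := by decide +kernel

theorem schChkT0_19 : pieceOK 30 (schT0) (dataT.schChk 0) 19 = true := by decide +kernel

theorem schChkT0_20 : pieceOK 30 (schT0) (dataT.schChk 0) 20 = true := by decide +kernel

theorem schChkT0_21 : pieceOK 30 (schT0) (dataT.schChk 0) 21 = true := by decide +kernel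

theorem schChkT0_22 : pieceOK 30 (schT0) (dataT.schChk 0) 22 = true := by decide +kernel

theorem schChkT0_23 : pieceOK 30 (schT0) (dataT.schChk 0) 23 = true := by decide +kernel

theorem schChkT0_24 : pieceOK 30 (schT0) (dataT.schChk 0) 24 = true := by decide +kernel

theorem schChkT0_25 : pieceOK 30 (schT0) (dataT.schChk 0) 25 = true := by decide +kernel

theorem schChkT0_all : (schT0).all (dataT.schChk 0) = true :=
  all_of_pieces (n := 30) (m := 26) (by decide +kernel) fun i hi =>
    match i, hi with
    | 0, _ => schChkT0_0
    | 1, _ => schChkT0_1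
    | 2, _ => schChkT0_2
    | 3, _ => schChkT0_3
    | 4, _ => schChkT0_4
    | 5, _ => schChkT0_5
    | 6, _ => schChkT0_6
    | 7, _ => schChkT0_7
    | 8, _ => schChkT0_8
    | 9, _ => schChkT0_9
    | 10, _ => schChkT0_10
    | 11, _ => schChkT0_11
    | 12, _ => schChkT0_12
    | 13, _ => schChkT0_13
    | 14, _ => schChkT0_14
    | 15, _ => schChkT0_15
    | 16, _ => schChkT0_16
    | 17, _ => schChkT0_17
    | 18, _ => schChkT0_18
    | 19, _ => schChkT0_19
    | 20, _ => schChkT0_20
    | 21, _ => schChkT0_21
    | 22, _ => schChkT0_22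
    | 23, _ => schChkT0_23
    | 24, _ => schChkT0_24
    | 25, _ => schChkT0_25
    | j + 26, h => absurd h (by omega)

theorem schChkT1_0 : pieceOK 30 (schT1) (dataT.schChk 1) 0 = true := by decide +kernel

theorem schChkT1_1 : pieceOK 30 (schT1) (dataT.schChk 1) 1 = true := by decide +kernel

theorem schChkT1_2 : pieceOK 30 (schT1) (dataT.schChk 1) 2 = true := by decide +kernel

theorem schChkT1_3 : pieceOK 30 (schT1) (dataT.schChk 1) 3 = true := by decide +kernel

theorem schChkT1_4 : pieceOK 30 (schT1) (dataT.schChk 1) 4 = true := by decide +kernel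

theorem schChkT1_5 : pieceOK 30 (schT1) (dataT.schChk 1) 5 = true := by decide +kernel

theorem schChkT1_6 : pieceOK 30 (schT1) (dataT.schChk 1) 6 = true := by decide +kernel

theorem schChkT1_7 : pieceOK 30 (schT1) (dataT.schChk 1) 7 = true := by decide +kernel

theorem schChkT1_all : (schT1).all (dataT.schChk 1) = true :=
  all_of_pieces (n := 30) (m := 8) (by decide +kernel) fun i hi =>
    match i, hi with
    | 0, _ => schChkT1_0
    | 1, _ => schChkT1_1
    | 2, _ => schChkT1_2
    | 3, _ => schChkT1_3
    | 4, _ => schChkT1_4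
    | 5, _ => schChkT1_5
    | 6, _ => schChkT1_6
    | 7, _ => schChkT1_7
    | j + 8, h => absurd h (by omega)

theorem schChkT2_0 : pieceOK 30 (schT2) (dataT.schChk 2) 0 = true := by decide +kernel

theorem schChkT2_1 : pieceOK 30 (schT2) (dataT.schChk 2) 1 = true := by decide +kernel

theorem schChkT2_2 : pieceOK 30 (schT2) (dataT.schChk 2) 2 = true := by decide +kernel

theorem schChkT2_all : (schT2).all (dataT.schChk 2) = true :=
  all_of_pieces (n := 30) (m := 3) (by decide +kernel) fun i hi =>
    match i, hi with
    | 0, _ => schChkT2_0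
    | 1, _ => schChkT2_1
    | 2, _ => schChkT2_2
    | j + 3, h => absurd h (by omega)

theorem schChkT3_0 : pieceOK 30 (schT3) (dataT.schChk 3) 0 = true := by decide +kernel

theorem schChkT3_1 : pieceOK 30 (schT3) (dataT.schChk 3) 1 = true := by decide +kernel

theorem schChkT3_all : (schT3).all (dataT.schChk 3) = true :=
  all_of_pieces (n := 30) (m := 2) (by decide +kernel) fun i hi =>
    match i, hi with
    | 0, _ => schChkT3_0
    | 1, _ => schChkT3_1
    | j + 2, h => absurd h (by omega)

theorem schChkT4_0 : pieceOK 30 (schT4) (dataT.schChk 4) 0 = true := by decide +kernel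

theorem schChkT4_all : (schT4).all (dataT.schChk 4) = true :=
  all_of_pieces (n := 30) (m := 1) (by decide +kernel) fun i hi =>
    match i, hi with
    | 0, _ => schChkT4_0
    | j + 1, h => absurd h (by omega)

theorem schChkT5_0 : pieceOK 30 (schT5) (dataT.schChk 5) 0 = true := by decide +kernel

theorem schChkT5_all : (schT5).all (dataT.schChk 5) = true :=
  all_of_pieces (n := 30) (m := 1) (by decide +kernel) fun i hi =>
    match i, hi with
    | 0, _ => schChkT5_0
    | j + 1, h => absurd h (by omega)

theorem schChkT6_0 : pieceOK 30 (schT6) (dataT.schChk 6) 0 = true := by decide +kernel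

theorem schChkT6_all : (schT6).all (dataT.schChk 6) = true :=
  all_of_pieces (n := 30) (m := 1) (by decide +kernel) fun i hi =>
    match i, hi with
    | 0, _ => schChkT6_0
    | j + 1, h => absurd h (by omega)

theorem schChkT7_0 : pieceOK 30 (schT7) (dataT.schChk 7) 0 = true := by decide +kernel

theorem schChkT7_all : (schT7).all (dataT.schChk 7) = true :=
  all_of_pieces (n := 30) (m := 1) (by decide +kernel) fun i hi =>
    match i, hi with
    | 0, _ => schChkT7_0
    | j + 1, h => absurd h (by omega)

theorem schChkT8_0 : pieceOK 30 (schT8) (dataT.schChk 8) 0 = true := by decide +kernel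

theorem schChkT8_all : (schT8).all (dataT.schChk 8) = true :=
  all_of_pieces (n := 30) (m := 1) (by decide +kernel) fun i hi =>
    match i, hi with
    | 0, _ => schChkT8_0
    | j + 1, h => absurd h (by omega)

end CfsgLib.OmegaSevenMult
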