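import Cfsg.Agent.Lib.OmegaSevenMult.DataT
import Cfsg.Agent.Lib.Leech.Sub.Split

/-! Kernel checks of the lifted chain of the cover: elements. -/

set_option autoImplicit false
-- the pieces are checked one after another, which keeps the peak memory low
set_option Elab.async false
set_option maxRecDepth 100000

namespace CfsgLib.OmegaSevenMult

open CfsgLib.Schur.MonoCover CfsgLib.Leech

theorem tabChkT_0 : pieceOK 50 (List.range dataT.nE) (dataT.tabChk) 0 = true := by decide +kernel

theorem tabChkT_1 : pieceOK 50 (List.range dataT.nE) (dataT.tabChk) 1 = true := by decide +kernel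

theorem tabChkT_2 : pieceOK 50 (List.range dataT.nE) (dataT.tabChk) 2 = true := by decide +kernel

theorem tabChkT_3 : pieceOK 50 (List.range dataT.nE) (dataT.tabChk) 3 = true := by decide +kernel

theorem tabChkT_4 : pieceOK 50 (List.range dataT.nE) (dataT.tabChk) 4 = true := by decide +kernel

theorem tabChkT_5 : pieceOK 50 (List.range dataT.nE) (dataT.tabChk) 5 = true := by decide +kernel

theorem tabChkT_6 : pieceOK 50 (List.range dataT.nE) (dataT.tabChk) 6 = true := by decide +kernel

theorem tabChkT_7 : pieceOK 50 (List.range dataT.nE) (dataT.tabChk) 7 = true := by decide +kernel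

theorem tabChkT_8 : pieceOK 50 (List.range dataT.nE) (dataT.tabChk) 8 = true := by decide +kernel

theorem tabChkT_9 : pieceOK 50 (List.range dataT.nE) (dataT.tabChk) 9 = true := by decide +kernel

theorem tabChkT_10 : pieceOK 50 (List.range dataT.nE) (dataT.tabChk) 10 = true := by decide +kernel

theorem tabChkT_11 : pieceOK 50 (List.range dataT.nE) (dataT.tabChk) 11 = true := by decide +kernel

theorem tabChkT_12 : pieceOK 50 (List.range dataT.nE) (dataT.tabChk) 12 = true := by decide +kernel

theorem tabChkT_all : (List.range dataT.nE).all (dataT.tabChk) = true :=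
  all_of_pieces (n := 50) (m := 13) (by decide +kernel) fun i hi =>
    match i, hi with
    | 0, _ => tabChkT_0
    | 1, _ => tabChkT_1
    | 2, _ => tabChkT_2
    | 3, _ => tabChkT_3
    | 4, _ => tabChkT_4
    | 5, _ => tabChkT_5
    | 6, _ => tabChkT_6
    | 7, _ => tabChkT_7
    | 8, _ => tabChkT_8
    | 9, _ => tabChkT_9
    | 10, _ => tabChkT_10
    | 11, _ => tabChkT_11
    | 12, _ => tabChkT_12
    | j + 13, h => absurd h (by omega)

theorem defChkT_0 : pieceOK 30 (List.range dataT.nU) (dataT.defChk) 0 = true := by decide +kernel

theorem defChkT_1 : pieceOK 30 (List.range dataT.nU) (dataT.defChk) 1 = true := by decide +kernel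

theorem defChkT_2 : pieceOK 30 (List.range dataT.nU) (dataT.defChk) 2 = true := by decide +kernel

theorem defChkT_3 : pieceOK 30 (List.range dataT.nU) (dataT.defChk) 3 = true := by decide +kernel

theorem defChkT_4 : pieceOK 30 (List.range dataT.nU) (dataT.defChk) 4 = true := by decide +kernel

theorem defChkT_5 : pieceOK 30 (List.range dataT.nU) (dataT.defChk) 5 = true := by decide +kernel

theorem defChkT_6 : pieceOK 30 (List.range dataT.nU) (dataT.defChk) 6 = true := by decide +kernel

theorem defChkT_7 : pieceOK 30 (List.range dataT.nU) (dataT.defChk) 7 = true := by decide +kernel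

theorem defChkT_8 : pieceOK 30 (List.range dataT.nU) (dataT.defChk) 8 = true := by decide +kernel

theorem defChkT_9 : pieceOK 30 (List.range dataT.nU) (dataT.defChk) 9 = true := by decide +kernel

theorem defChkT_10 : pieceOK 30 (List.range dataT.nU) (dataT.defChk) 10 = true := by decide +kernel

theorem defChkT_11 : pieceOK 30 (List.range dataT.nU) (dataT.defChk) 11 = true := by decide +kernel

theorem defChkT_12 : pieceOK 30 (List.range dataT.nU) (dataT.defChk) 12 = true := by decide +kernel

theorem defChkT_13 : pieceOK 30 (List.range dataT.nU) (dataT.defChk) 13 = true := by decide +kernel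

theorem defChkT_14 : pieceOK 30 (List.range dataT.nU) (dataT.defChk) 14 = true := by decide +kernel

theorem defChkT_15 : pieceOK 30 (List.range dataT.nU) (dataT.defChk) 15 = true := by decide +kernel

theorem defChkT_16 : pieceOK 30 (List.range dataT.nU) (dataT.defChk) 16 = true := by decide +kernel

theorem defChkT_17 : pieceOK 30 (List.range dataT.nU) (dataT.defChk) 17 = true := by decide +kernel

theorem defChkT_18 : pieceOK 30 (List.range dataT.nU) (dataT.defChk) 18 = true := by decide +kernel

theorem defChkT_all : (List.range dataT.nU).all (dataT.defChk) = true :=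
  all_of_pieces (n := 30) (m := 19) (by decide +kernel) fun i hi =>
    match i, hi with
    | 0, _ => defChkT_0
    | 1, _ => defChkT_1
    | 2, _ => defChkT_2
    | 3, _ => defChkT_3
    | 4, _ => defChkT_4
    | 5, _ => defChkT_5
    | 6, _ => defChkT_6
    | 7, _ => defChkT_7
    | 8, _ => defChkT_8
    | 9, _ => defChkT_9
    | 10, _ => defChkT_10
    | 11, _ => defChkT_11
    | 12, _ => defChkT_12
    | 13, _ => defChkT_13
    | 14, _ => defChkT_14
    | 15, _ => defChkT_15
    | 16, _ => defChkT_16
    | 17, _ => defChkT_17
    | 18, _ => defChkT_18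
    | j + 19, h => absurd h (by omega)

theorem invChkT_all : (List.range dataT.ng).all dataT.invChk = true := by decide +kernel

theorem levChkT_0 : dataT.levChk 0 = true := by decide +kernel

theorem levChkT_1 : dataT.levChk 1 = true := by decide +kernel

theorem levChkT_2 : dataT.levChk 2 = true := by decide +kernel

theorem levChkT_3 : dataT.levChk 3 = true := by decide +kernel

theorem levChkT_4 : dataT.levChk 4 = true := by decide +kernel

theorem levChkT_5 : dataT.levChk 5 = true := by decide +kernel

theorem levChkT_6 : dataT.levChk 6 = true := by decide +kernel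

theorem levChkT_7 : dataT.levChk 7 = true := by decide +kernel

theorem levChkT_8 : dataT.levChk 8 = true := by decide +kernel

theorem pickChkT_all : (List.range dataT.nlev).all (fun k => (dataT.pick k).all (dataT.pickChk k)) = true := by decide +kernel

end CfsgLib.OmegaSevenMult
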