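import Cfsg.Agent.Lib.Schur.OmegaMult
import Cfsg.Agent.Lib.Schur.MonoLift
import Cfsg.Agent.Lib.Schur.SzEight
import Cfsg.Agent.Lib.Schur.GroupCongr
import Cfsg.Agent.Lib.OmegaSevenMult.Action
import Cfsg.Agent.Lib.OmegaSevenMult.Bound
import Cfsg.Agent.Lib.OmegaSevenMult.Combine
import Cfsg.Agent.Lib.OmegaSevenMult.FieldIso
import Cfsg.Agent.Lib.OmegaSevenMult.ChkT
import Cfsg.Agent.Lib.OmegaSevenMult.ChkSchT

/-!
# The multiplier of `PΩ₇(3)` is cyclic of order six
-/

set_option autoImplicit false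
set_option maxRecDepth 100000
set_option linter.style.haveILetI false

namespace CfsgLib.OmegaSevenMult

open CfsgLib.Schur.MonoCover CfsgLib.Orth

theorem validT : dataT.Valid where
  hm := by decide
  hc := by decide
  htab := tabChkT_all
  hinv := invChkT_all
  hdef := defChkT_all
  hlev := List.all_eq_true.2 fun k hk =>
    match k, List.mem_range.1 hk with
    | 0, _ => levChkT_0
    | 1, _ => levChkT_1
    | 2, _ => levChkT_2
    | 3, _ => levChkT_3
    | 4, _ => levChkT_4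
    | 5, _ => levChkT_5
    | 6, _ => levChkT_6
    | 7, _ => levChkT_7
    | 8, _ => levChkT_8
    | j + 9, h => absurd h (Nat.not_lt.2 (Nat.le_add_left 9 j))
  hlast := by decide
  hsch := fun k hk =>
    match k, hk with
    | 0, _ => schChkT0_all
    | 1, _ => schChkT1_all
    | 2, _ => schChkT2_all
    | 3, _ => schChkT3_all
    | 4, _ => schChkT4_all
    | 5, _ => schChkT5_all
    | 6, _ => schChkT6_all
    | 7, _ => schChkT7_all
    | 8, _ => schChkT8_all
    | j + 9, h => absurd h (Nat.not_lt.2 (Nat.le_add_left 9 j))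
  hpick := fun k hk => List.all_eq_true.1 pickChkT_all k (List.mem_range.2 hk)

/-- The triple cover. -/
theorem exists_three : ∃ (Γ : Type) (_ : Group Γ) (_ : Finite Γ) (σ : Γ →* Cfsg.Omega F3 q7),
    Cfsg.IsStemExtension σ ∧ 3 ∣ Nat.card σ.ker := by
  obtain ⟨ρ, hρ⟩ := exists_action
  have hle : Nat.card (Cfsg.Omega F3 q7) ≤ Data.orbitProd dataT 0 dataT.nlev := by
    rw [card_omega_seven, orbitProd_eq]
  obtain ⟨hgen, -⟩ := Data.chain_generates validT ρ Xl hρ hle
  obtain ⟨Γ, _, _, σ, el, z, hσ, hk, ho, -, -⟩ :=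
    Data.exists_stem_lifts validT ρ Xl hρ hgen hle word (r := 1) wordChk (Nat.coprime_one_left _)
  refine ⟨Γ, inferInstance, inferInstance, σ, hσ, ?_⟩
  rw [hk, Nat.card_zpowers, ho]
  exact dvd_rfl

/-- The multiplier of `Ω₇(3)`. -/
theorem multiplier_omega : Cfsg.HasCyclicSchurMultiplier (Cfsg.Omega F3 q7) 6 := by
  obtain ⟨Q, hQ, hB⟩ := exists_quad
  have h3 := exists_three
  rw [← hQ] at h3 ⊢
  have hn : 5 ≤ Module.finrank F3 (Ix → F3) := by simp
  obtain ⟨Γ₂, _, _, σ₂, h₂, hc₂⟩ := h3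
  have hG : commutator (Cfsg.Omega F3 ⇑Q) = ⊤ :=
    Subgroup.map_injective (Subgroup.subtype_injective _) (by
      rw [Subgroup.map_subtype_commutator, omega_perfect hB hn, ← MonoidHom.range_eq_map,
        Subgroup.range_subtype])
  haveI := CfsgLib.Schur.OmegaMult.finite_spin hB two_ne hn
  obtain ⟨m, hm⟩ := CfsgLib.Schur.Spin.exists_neg_one hB two_ne hn
  obtain ⟨hm1, hmp⟩ := CfsgLib.Schur.OmegaMult.proj_neg_one hB two_ne hn hm
  have hs : Cfsg.IsStemExtension (CfsgLib.Schur.Spin.proj hB two_ne hn) :=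
    ⟨CfsgLib.Schur.Spin.proj_surjective hB two_ne hn, CfsgLib.Schur.Spin.ker_le_center hB two_ne hn,
      by rw [CfsgLib.Schur.Spin.commutator_eq_top hB two_ne hn]; exact le_top⟩
  have hm2 : m ^ 2 = 1 := Subtype.ext (Units.ext (by
    rw [SubmonoidClass.coe_pow, Units.val_pow_eq_pow_val, hm]
    simp))
  have hord : orderOf (⟨m, hmp⟩ : (CfsgLib.Schur.Spin.proj hB two_ne hn).ker) = 2 :=
    orderOf_eq_prime (hp := ⟨Nat.prime_two⟩) (Subtype.ext hm2) fun e => hm1 (congrArg Subtype.val e)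
  exact multiplier_six hG (fun τ => card_ker_dvd hQ hB τ) hs h₂ ((dvd_of_eq hord.symm).trans (orderOf_dvd_natCard _)) hc₂

/-- The multiplier of `PΩ₇(3)`. -/
theorem multiplier {F : Type*} [Field F] [Fintype F] (hF : Fintype.card F = 3) :
    Cfsg.HasCyclicSchurMultiplier (Cfsg.POmega F (Cfsg.quadFormOdd 3 F)) 6 := by
  let φ : F3 ≃+* F := ZMod.ringEquivOfPrime F Nat.prime_three hF
  obtain ⟨e⟩ := pomega_congr φ (m := 3)
  let e₀ : Cfsg.Omega F3 q7 ≃* Cfsg.POmega F3 q7 :=
    MulEquiv.ofBijective (QuotientGroup.mk' (Subgroup.center (Cfsg.Omega F3 q7)))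
      ⟨(MonoidHom.ker_eq_bot_iff _).mp (by rw [QuotientGroup.ker_mk', center_omega_seven]),
        QuotientGroup.mk'_surjective _⟩
  exact CfsgLib.Schur.SzEight.hasSchurMultiplier_transport (e₀.trans e) multiplier_omega

end CfsgLib.OmegaSevenMult
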