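import Mathlib
import Cfsg.Prelude.Def_Classical

/-!
# Some vectors of the seven-dimensional space over three elements

The midpoints of the paths from `e₀` to `e₀ + r` for a singular `r` fall into three classes, permuted
cyclically by an element of order three.
-/

set_option autoImplicit false
set_option maxRecDepth 100000

namespace CfsgLib.OmegaSevenMult

open Matrix

/-- the field of three elements -/
abbrev F3 : Type := ZMod 3

/-- the coordinates -/
abbrev Ix : Type := Unit ⊕ (Fin 3 ⊕ Fin 3)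

/-- the form -/
abbrev q7 : (Ix → F3) → F3 := Cfsg.quadFormOdd 3 F3

/-- the polar form -/
def b7 (x y : Ix → F3) : F3 := q7 (x + y) - q7 x - q7 y

/-- the vertex -/
def vE : Ix → F3 := Sum.elim 1 0

/-- the singular vector -/
def vR : Ix → F3 := Sum.elim 0 (Sum.elim ![1, 0, 0] 0)

/-- the first midpoint -/
def vA : Ix → F3 := Sum.elim 0 (Sum.elim ![0, 1, 0] ![0, 1, 0])

/-- the element of order three: a shear and its contragredient -/
def rotM : Matrix Ix Ix F3 := fun i j =>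
  match i, j with
  | .inl _, .inl _ => 1
  | .inr (.inl i), .inr (.inl j) => !![1, 0, 0; 0, 1, 1; 0, 0, 1] i j
  | .inr (.inr i), .inr (.inr j) => !![1, 0, 0; 0, 1, 0; 0, 2, 1] i j
  | _, _ => 0

theorem rotM_cube : rotM * (rotM * rotM) = 1 ∧ rotM * rotM * rotM = 1 := by decide +kernel

theorem rotM_isometry : ∀ v : Ix → F3, q7 (rotM *ᵥ v) = q7 v := by decide +kernel

theorem rotM_fix : rotM *ᵥ vE = vE ∧ rotM *ᵥ vR = vR := by decide +kernel

theorem base_vals : q7 vE = 1 ∧ q7 vR = 0 ∧ q7 vA = 1 ∧ b7 vE vR = 0 ∧ b7 vE vA = 0 ∧ b7 vR vA = 0 ∧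
    vR ≠ 0 := by decide +kernel

/-- the three midpoints -/
def mid : Fin 3 → Ix → F3
  | 0 => vA
  | 1 => rotM *ᵥ vA
  | 2 => rotM *ᵥ (rotM *ᵥ vA)

/-- the auxiliary vectors -/
def aux (k : Fin 81) : Ix → F3 :=
  Sum.elim 0 (Sum.elim ![0, ((k : ℕ) : F3), (((k : ℕ) / 3 : ℕ) : F3)]
    ![0, (((k : ℕ) / 9 : ℕ) : F3), (((k : ℕ) / 27 : ℕ) : F3)])

/-- every midpoint is joined to one of the three by one or two steps -/
theorem mid_reach : ∀ z : Ix → F3, q7 z = 1 → b7 vE z = 0 → b7 vR z = 0 → ∃ i : Fin 3,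
    b7 z (mid i) = 0 ∨ ∃ k : Fin 81, q7 (aux k) = 1 ∧ b7 vE (aux k) = 0 ∧ b7 vR (aux k) = 0 ∧
      b7 z (aux k) = 0 ∧ b7 (aux k) (mid i) = 0 := by decide +kernel

end CfsgLib.OmegaSevenMult
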